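import Cfsg.Agent.Lib.Blocks.ClassCount
import Cfsg.Agent.Lib.Characters.Decomp

/-!
# Class multiplication when only four characters are nonzero at an element
-/

set_option autoImplicit false
set_option linter.unusedSectionVars false

noncomputable section

namespace CfsgLib.SmallCent31

open Cfsg CfsgLib.Characters
open CfsgLib.ClassCount (pairs cofDegree)
open scoped ComplexConjugate

universe u

variable {G : Type u} [Group G] [Fintype G]

open Classical in
theorem support_four {σ : G} (hc : Nat.card (Subgroup.centralizer ({σ} : Set G)) = 4)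
    (f : Fin 4 → IrrCharacter G) (hf : Function.Injective f)
    (h1 : ∀ i, ‖(f i : G → ℂ) σ‖ = 1) (χ : IrrCharacter G) (hχ : ∀ i, χ ≠ f i) :
    (χ : G → ℂ) σ = 0 := by
  have h := column_orth (G := G) σ σ
  rw [if_pos (IsConj.refl σ), hc] at h
  simp only [Complex.mul_conj'] at h
  have hR : ∑ ψ : IrrCharacter G, ‖(ψ : G → ℂ) σ‖ ^ 2 = 4 := by
    have : ((∑ ψ : IrrCharacter G, ‖(ψ : G → ℂ) σ‖ ^ 2 : ℝ) : ℂ) = ((4 : ℝ) : ℂ) := by
      push_cast
      rw [h]; norm_num
    exact_mod_cast this
  rw [← Finset.sum_add_sum_compl (Finset.univ.image f),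
    Finset.sum_image (fun a _ b _ h => hf h)] at hR
  simp only [h1, one_pow, Finset.sum_const, Finset.card_univ, Fintype.card_fin, nsmul_eq_mul,
    mul_one, Nat.cast_ofNat, add_eq_left] at hR
  rw [Finset.sum_eq_zero_iff_of_nonneg (fun ψ _ => sq_nonneg _)] at hR
  have := hR χ (by simpa using fun i e => hχ i e.symm)
  simpa using this

open Classical in
theorem pairs_four (a b g : G) (f : Fin 4 → IrrCharacter G) (hf : Function.Injective f)
    (hz : ∀ χ : IrrCharacter G, (∀ i, χ ≠ f i) → (χ : G → ℂ) g = 0) :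
    ((pairs a b {g}).card : ℂ) * (Nat.card (Subgroup.centralizer ({a} : Set G)) : ℂ) *
        (Nat.card (Subgroup.centralizer ({b} : Set G)) : ℂ) =
      ∑ i, (Nat.card G : ℂ) / (f i : G → ℂ) 1 *
        ((f i : G → ℂ) a * (f i : G → ℂ) b * conj ((f i : G → ℂ) g)) := by
  rw [CfsgLib.ClassCount.card_pairs_mul_centralizers, ← Finset.sum_subset
    (Finset.subset_univ (Finset.univ.image f))]
  · rw [Finset.sum_image (fun a _ b _ h => hf h)]
    refine Finset.sum_congr rfl fun i _ => ?_
    rw [Finset.sum_singleton, irr_apply_inv, CfsgLib.ClassCount.card_div_degree]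
  · intro χ _ hχ
    rw [Finset.sum_singleton, irr_apply_inv, hz χ (fun i e => hχ (by simp [e]))]
    simp

end CfsgLib.SmallCent31
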