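import Cfsg.Agent.Lib.SmallCent31.Setup
import Cfsg.Agent.Lib.SmallCent31.CharTools
import Cfsg.Agent.Lib.BlockCover.Regular
import Cfsg.Agent.S4481
import Cfsg.Agent.S4482

/-!
# The two order equations of the whole group
-/

set_option autoImplicit false
set_option linter.style.haveILetI false
set_option linter.unusedSectionVars false

noncomputable section

namespace CfsgLib.SmallCent31

open Cfsg Subgroup CfsgLib.Characters
open CfsgLib.ClassCount (pairs cls mem_cls degree_eq exists_mult)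
open scoped ComplexConjugate

universe u

variable {G : Type u} [Group G] [Finite G]

namespace D8

variable (d : D8 G)

theorem σ_centralizer_card : Nat.card (centralizer ({d.σ} : Set G)) = 4 := by
  rw [d.hC, Nat.card_zpowers, d.hσo]

theorem z_conj_τ : IsConj d.z d.τ := d.hone _ _ d.zo d.hτo
theorem z_conj_στ : IsConj d.z (d.σ * d.τ) := d.hone _ _ d.zo d.στo

theorem inv_of_inverts {s : G} (h : s * d.σ * s⁻¹ = d.σ⁻¹) :
    ∃ k < 4, s = d.σ ^ k * d.τ := by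
  have h1 : d.τ * s ∈ zpowers d.σ := by
    rw [← d.hC, mem_centralizer_singleton_iff, ← mul_inv_eq_iff_eq_mul]
    calc d.τ * s * d.σ * (d.τ * s)⁻¹ = d.τ * (s * d.σ * s⁻¹) * d.τ⁻¹ := by group
      _ = (d.τ * d.σ * d.τ⁻¹)⁻¹ := by rw [h]; group
      _ = d.σ := by rw [d.hrel, inv_inv]
  have hP : d.τ * s ∈ (d.P : Subgroup G) := zpowers_le.mpr d.hσP h1
  obtain ⟨i, hi, e | e⟩ := d.P_cases hP
  · refine ⟨3 * i % 4, Nat.mod_lt _ (by norm_num), ?_⟩
    have : s = d.τ * d.σ ^ i := by rw [← e, ← mul_assoc, d.τsq, one_mul]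
    rw [this, d.τσpow]
    congr 1
    conv_lhs => rw [← Nat.mod_add_div (3 * i) 4, pow_add, pow_mul, d.σ4, one_pow, mul_one]
  · exfalso
    rw [e] at h1
    exact d.τ_not_zpowers ((mul_mem_cancel_left (pow_mem (mem_zpowers _) i)).mp h1)

theorem στ_pow_inv (k : ℕ) : (d.σ ^ k * d.τ) * (d.σ ^ k * d.τ) = 1 := by
  rw [mul_assoc, ← mul_assoc d.τ, d.τσpow, mul_assoc, d.τsq, mul_one, ← pow_add,
    show k + 3 * k = 4 * k by ring, pow_mul, d.σ4, one_pow]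

theorem orderOf_reflection (k : ℕ) : orderOf (d.σ ^ k * d.τ) = 2 := by
  refine orderOf_eq_prime (by rw [pow_two]; exact d.στ_pow_inv k) fun e => d.τ_not_zpowers ?_
  rw [eq_inv_of_mul_eq_one_right e]
  exact inv_mem (pow_mem (mem_zpowers _) _)

open Classical in
theorem pairs_zz [Fintype G] : (pairs d.z d.z {d.σ}).card = 4 := by
  have e : pairs d.z d.z {d.σ} =
      (Finset.range 4).image fun k => (d.σ ^ k * d.τ, (d.σ ^ k * d.τ) * d.σ) := by
    ext ⟨s, t⟩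
    simp only [pairs, Finset.mem_filter, Finset.mem_product, mem_cls, Finset.mem_singleton,
      Finset.mem_image, Finset.mem_range, Prod.mk.injEq]
    constructor
    · rintro ⟨⟨hs, ht⟩, hst⟩
      have hso : orderOf s = 2 := by
        obtain ⟨c, rfl⟩ := isConj_iff.mp hs; rw [orderOf_conj31, d.zo]
      have hto : orderOf t = 2 := by
        obtain ⟨c, rfl⟩ := isConj_iff.mp ht; rw [orderOf_conj31, d.zo]
      have hs2 : s * s = 1 := by rw [← pow_two, ← hso, pow_orderOf_eq_one]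
      have ht2 : t * t = 1 := by rw [← pow_two, ← hto, pow_orderOf_eq_one]
      have hsi : s⁻¹ = s := inv_eq_of_mul_eq_one_right hs2
      have hti : t⁻¹ = t := inv_eq_of_mul_eq_one_right ht2
      have hinv : s * d.σ * s⁻¹ = d.σ⁻¹ := by
        rw [← hst, ← mul_assoc, hs2, one_mul, mul_inv_rev, hti]
      obtain ⟨k, hk, rfl⟩ := d.inv_of_inverts hinv
      refine ⟨k, hk, rfl, ?_⟩
      conv_rhs => rw [show t = (d.σ ^ k * d.τ) * (d.σ ^ k * d.τ * t) by rw [← mul_assoc, hs2, one_mul], hst]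
    · rintro ⟨k, -, rfl, rfl⟩
      refine ⟨⟨d.hone _ _ d.zo (d.orderOf_reflection k), d.hone _ _ d.zo ?_⟩, ?_⟩
      · have e : d.σ ^ k * d.τ * d.σ = d.σ ^ (k + 3) * d.τ := by
          rw [mul_assoc, d.τσ, ← mul_assoc, pow_add]
        rw [e]; exact d.orderOf_reflection _
      · rw [← mul_assoc, d.στ_pow_inv, one_mul]
  rw [e, Finset.card_image_of_injOn, Finset.card_range]
  intro i hi j hj h
  have h1 := mul_right_cancel (congrArg Prod.fst h)
  exact pow_injOn_Iio_orderOf (by simpa [d.hσo] using hi) (by simpa [d.hσo] using hj) h1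

theorem sign_sq {δ : ℤ} (h : δ = 1 ∨ δ = -1) : δ * δ = 1 := by
  rcases h with rfl | rfl <;> norm_num

/-- The order equations. -/
theorem main_eqs : ∃ m : ℤ, m ≠ 0 ∧
    (Nat.card G : ℤ) * m ^ 2 = 2 * (Nat.card d.A) * (Nat.card d.B) *
      ((Nat.card d.A : ℤ) + Nat.card d.B) ^ 2 * (8 * m + 1) * (4 * m + 1) ∧
    ∃ k : ℤ, k ^ 2 * (((Nat.card d.A : ℤ) + Nat.card d.B) ^ 2 * (4 * m + 1) ^ 2 -
        64 * (Nat.card d.A) * (Nat.card d.B) * m ^ 2) =
      64 * (4 * m + 1) ^ 2 * m ^ 2 * ((Nat.card d.A : ℤ) - Nat.card d.B) ^ 2 := by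
  classical
  letI := Fintype.ofFinite G
  obtain ⟨M, hM⟩ : ∃ M : Ideal AlgInt, IsPModular 2 M :=
    CfsgLib.BlockCover.exists_isPModular Nat.prime_two
  obtain ⟨ζ, hζ⟩ : ∃ ζ : ℂ, IsPrimitiveRoot ζ (2 ^ (3 - 1)) :=
    ⟨_, Complex.isPrimitiveRoot_exp _ (by norm_num)⟩
  obtain ⟨-, χ₁, χ₂, χ₃, χ', δ₁, δ₂, δ₃, hd1, hd2, hd3, -, n1, n2, n3, n12, n13, n23, -, hB, hv,
      hreg⟩ :=
    Cfsg.Agent.S4481.result M hM 3 le_rfl d.P d.hiso d.σ d.hσP d.hσo ζ hζ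
  obtain ⟨hne, hform⟩ := Cfsg.Agent.S4482.result M hM 3 le_rfl d.P d.σ d.τ d.hσP d.hτP d.hσo d.hτo
    d.hrel d.hgen ⟨d.z_conj_τ, d.z_conj_στ⟩ χ₁ (by rw [hB]; exact Or.inr (Or.inl rfl)) n1 δ₁ hd1
    (fun l h0 h4 => (hv l h0 h4).1)
  obtain ⟨v11, v21, v31, -⟩ := hv 1 one_pos (by norm_num)
  obtain ⟨v12, v22, v32, -⟩ := hv 2 two_pos (by norm_num)
  obtain ⟨hr, -⟩ := hreg 1 (by simp) ⟨0, by norm_num⟩
  rw [pow_one] at v11 v21 v31
  norm_num at v21 v31 v22 v32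
  change (χ₁ : G → ℂ) d.z = δ₁ at v12
  change (χ₂ : G → ℂ) d.z = -(δ₂ : ℂ) at v22
  change (χ₃ : G → ℂ) d.z = -(δ₃ : ℂ) at v32
  set x := charDegree (χ₁ : G → ℂ) with hx
  set y := charDegree (χ₂ : G → ℂ) with hy
  set v := charDegree (χ₃ : G → ℂ) with hv'
  have hx1 := (degree_eq χ₁).1
  have hy1 := (degree_eq χ₂).1
  have hv1 := (degree_eq χ₃).1
  have hx0 : (x : ℚ) ≠ 0 := Nat.cast_ne_zero.mpr (degree_eq χ₁).2.2.ne'
  have hy0 : (y : ℚ) ≠ 0 := Nat.cast_ne_zero.mpr (degree_eq χ₂).2.2.ne'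
  have hv0 : (v : ℚ) ≠ 0 := Nat.cast_ne_zero.mpr (degree_eq χ₃).2.2.ne'
  rw [← hx] at hx1; rw [← hy] at hy1; rw [← hv'] at hv1
  -- the degree relation
  have hrel : 1 + δ₁ * (x : ℤ) + δ₂ * y + δ₃ * v = 0 := by
    have : ((1 + δ₁ * (x : ℤ) + δ₂ * y + δ₃ * v : ℤ) : ℂ) = ((0 : ℤ) : ℂ) := by
      push_cast
      rw [← hx1, ← hy1, ← hv1]
      linear_combination hr
    exact_mod_cast this
  -- congruence
  have hcong : (8 : ℤ) ∣ (x : ℤ) + 7 * δ₁ := by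
    obtain ⟨c, hc⟩ := exists_mult χ₁ (d.P : Subgroup G)
    refine ⟨c, ?_⟩
    have hval : ∀ p : (d.P : Subgroup G), p ≠ 1 → (χ₁ : G → ℂ) ((p : G)⁻¹) = δ₁ := by
      intro p hp
      obtain ⟨k, hk, e | e⟩ := d.P_cases (inv_mem p.2)
      · rw [e]
        refine (hv k ?_ (by simpa using hk)).1
        rcases Nat.eq_zero_or_pos k with rfl | hk0
        · exact absurd (Subtype.ext (inv_eq_one.mp (by simpa using e))) hp
        · exact hk0
      · rw [e, ← v12]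
        exact classFunction_eq_of_isConj (irr_isClassFunction χ₁)
          (d.hone _ _ (d.orderOf_reflection k) d.zo)
    have hsum : ∑ p : (d.P : Subgroup G), (χ₁ : G → ℂ) ((p : G)⁻¹) = (x : ℂ) + 7 * δ₁ := by
      rw [← Finset.add_sum_erase _ _ (Finset.mem_univ (1 : (d.P : Subgroup G))),
        Finset.sum_congr rfl (fun p hp => hval p (Finset.ne_of_mem_erase hp)), Finset.sum_const,
        Finset.card_erase_of_mem (Finset.mem_univ _), Finset.card_univ, ← Nat.card_eq_fintype_card,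
        d.P_card, nsmul_eq_mul]
      simp [hx1]
    rw [hsum, d.P_card] at hc
    have : (((x : ℤ) + 7 * δ₁ : ℤ) : ℂ) = ((8 * (c : ℤ) : ℤ) : ℂ) := by
      push_cast at hc ⊢; exact hc
    exact_mod_cast this
  -- the class multiplication
  have hinj : Function.Injective ![principalIrr G, χ₁, χ₂, χ₃] := by
    intro i j h
    have m1 : principalIrr G ≠ χ₁ := fun h => n1 (h ▸ rfl)
    have m2 : principalIrr G ≠ χ₂ := fun h => n2 (h ▸ rfl)
    have m3 : principalIrr G ≠ χ₃ := fun h => n3 (h ▸ rfl)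
    fin_cases i <;> fin_cases j <;>
      simp_all [m1, m2, m3, m1.symm, m2.symm, m3.symm, n12, n13, n23, n12.symm, n13.symm, n23.symm]
  have hz := support_four d.σ_centralizer_card _ hinj (by
    intro i
    fin_cases i
    · simp [principalIrr]
    · show ‖(χ₁ : G → ℂ) d.σ‖ = 1
      rw [v11]; rcases hd1 with e | e <;> simp [e]
    · show ‖(χ₂ : G → ℂ) d.σ‖ = 1
      rw [v21]; rcases hd2 with e | e <;> simp [e]
    · show ‖(χ₃ : G → ℂ) d.σ‖ = 1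
      rw [v31]; rcases hd3 with e | e <;> simp [e])
  have hp := pairs_four d.z d.z d.σ _ hinj hz
  rw [d.pairs_zz, d.card_Cz, Fin.sum_univ_four] at hp
  simp only [Matrix.cons_val, principalIrr_apply, v11, v21, v31, v12, v22, v32, hx1, hy1, hv1,
    map_one, map_intCast, mul_one, div_one] at hp
  have sq : ∀ {δ : ℤ}, (δ = 1 ∨ δ = -1) → (δ : ℂ) * δ = 1 :=
    fun h => by exact_mod_cast sign_sq h
  set a := Nat.card d.A with ha
  set b := Nat.card d.B with hb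
  have hpQ : (256 : ℚ) * a ^ 2 * b ^ 2 =
      Nat.card G * (1 + (δ₁ : ℚ) / x + (δ₂ : ℚ) / y + (δ₃ : ℚ) / v) := by
    have : (((256 : ℚ) * a ^ 2 * b ^ 2 : ℚ) : ℂ) =
        ((Nat.card G * (1 + (δ₁ : ℚ) / x + (δ₂ : ℚ) / y + (δ₃ : ℚ) / v) : ℚ) : ℂ) := by
      push_cast at hp ⊢
      linear_combination hp + ((Nat.card G : ℂ) / x * δ₁) * sq hd1 +
        ((Nat.card G : ℂ) / y * δ₂) * sq hd2 + ((Nat.card G : ℂ) / v * δ₃) * sq hd3
    exact_mod_cast this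
  have hz2 : d.σ ^ (2 ^ (3 - 2)) = d.z := rfl
  rw [hz2, d.card_Cz, d.card_Czτ, d.card_Czστ] at hform
  rw [← ha, ← hb] at hform
  have ha0 : (a : ℚ) ≠ 0 := Nat.cast_ne_zero.mpr Nat.card_pos.ne'
  have hb0 : (b : ℚ) ≠ 0 := Nat.cast_ne_zero.mpr Nat.card_pos.ne'
  push_cast at hform
  obtain ⟨m, hm⟩ : (8 : ℤ) ∣ δ₁ * (x : ℤ) - 1 := by
    rcases hd1 with e | e <;> rw [e] at hcong ⊢ <;> omega
  have he : δ₁ * (x : ℤ) = 8 * m + 1 := by omega
  have hm0 : m ≠ 0 := by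
    rintro rfl
    apply hne
    rcases hd1 with e | e <;> rw [e] at he ⊢ <;> omega
  have heQ : (δ₁ : ℚ) * x = 8 * m + 1 := by exact_mod_cast he
  have sqQ : ∀ {δ : ℤ}, (δ = 1 ∨ δ = -1) → (δ : ℚ) * δ = 1 :=
    fun h => by exact_mod_cast sign_sq h
  -- first equation
  have h1 : (Nat.card G : ℚ) * m ^ 2 =
      2 * a * b * ((a : ℚ) + b) ^ 2 * (8 * m + 1) * (4 * m + 1) := by
    field_simp at hform
    have e1 : ((x : ℚ) - δ₁) ^ 2 = 64 * m ^ 2 := by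
      have : (x : ℚ) - δ₁ = δ₁ * (8 * m) := by linear_combination (-(x : ℚ)) * sqQ hd1 + δ₁ * heQ
      rw [this]; linear_combination (64 * (m : ℚ) ^ 2) * sqQ hd1
    have e2 : (x : ℚ) * (x + δ₁) = (8 * m + 1) * (8 * m + 2) := by
      have : (x : ℚ) = δ₁ * (8 * m + 1) := by linear_combination (-(x : ℚ)) * sqQ hd1 + δ₁ * heQ
      rw [this]
      linear_combination ((8 * (m : ℚ) + 1) * (8 * m + 2)) * sqQ hd1
    rw [e1] at hform
    have hab : (a : ℚ) * b ≠ 0 := mul_ne_zero ha0 hb0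
    refine mul_left_cancel₀ (mul_ne_zero (show (64 : ℚ) ≠ 0 by norm_num) (pow_ne_zero 1 hab)) ?_
    linear_combination (a * b / 16 : ℚ) * hform + (64 * (a : ℚ) ^ 2 * b ^ 2 * ((a : ℚ) + b) ^ 2) * e2
  refine ⟨m, hm0, by exact_mod_cast h1, δ₂ * (y : ℤ) - δ₃ * v, ?_⟩
  -- second equation
  set f := (δ₂ : ℚ) * y with hf
  set h := (δ₃ : ℚ) * v with hh
  have hfh : 1 + (8 * (m : ℚ) + 1) + f + h = 0 := by
    rw [← heQ, hf, hh]; exact_mod_cast hrel
  have hinv : ∀ {δ : ℤ} {w : ℚ}, (δ = 1 ∨ δ = -1) → (δ : ℚ) / w = 1 / ((δ : ℚ) * w) := by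
    rintro δ w (rfl | rfl) <;> simp [div_eq_mul_inv, inv_neg]
  rw [hinv hd1, hinv hd2, hinv hd3, heQ, ← hf, ← hh] at hpQ
  have hf0 : f ≠ 0 := mul_ne_zero (by rcases hd2 with e | e <;> simp [e]) hy0
  have hh0 : h ≠ 0 := mul_ne_zero (by rcases hd3 with e | e <;> simp [e]) hv0
  have he0 : (8 * (m : ℚ) + 1) ≠ 0 := by rw [← heQ]; exact mul_ne_zero (by rcases hd1 with e | e <;> simp [e]) hx0
  field_simp at hpQ
  have h2 : f * h * (((a : ℚ) + b) ^ 2 * (4 * m + 1) ^ 2 - 64 * a * b * m ^ 2) =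
      ((a : ℚ) + b) ^ 2 * (4 * m + 1) ^ 2 * (8 * m + 1) := by
    refine mul_left_cancel₀ (mul_ne_zero (mul_ne_zero (show (4 : ℚ) ≠ 0 by norm_num)
      (mul_ne_zero ha0 hb0)) he0) ?_
    linear_combination (-(m : ℚ) ^ 2) * hpQ +
      (-((8 * (m : ℚ) + 1) * f * h + f * h + (8 * m + 1) * (f + h))) * h1 +
      (2 * (a : ℚ) * b * (8 * m + 1) ^ 2 * ((a : ℚ) + b) ^ 2 * (4 * m + 1) * (-1)) * hfh
  have key : (f - h) ^ 2 * (((a : ℚ) + b) ^ 2 * (4 * m + 1) ^ 2 - 64 * a * b * m ^ 2) =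
      64 * (4 * m + 1) ^ 2 * m ^ 2 * ((a : ℚ) - b) ^ 2 := by
    linear_combination (f + h - 2 * (4 * (m : ℚ) + 1)) *
      (((a : ℚ) + b) ^ 2 * (4 * m + 1) ^ 2 - 64 * a * b * m ^ 2) * hfh - 4 * h2
  rw [hf, hh] at key
  exact_mod_cast key

end D8

end CfsgLib.SmallCent31
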