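import Cfsg.Agent.Lib.SmallCent31.SubW
import Mathlib.RingTheory.Int.Basic
import Mathlib.RingTheory.Coprime.Lemmas

/-!
# The order of a simple group with the dihedral data
-/

set_option autoImplicit false
set_option linter.style.haveILetI false
set_option linter.unusedSectionVars false

noncomputable section

namespace CfsgLib.SmallCent31

open Subgroup

universe u

/-- The square condition bounds the parameters. -/
theorem square_bound {t m u : ℤ} (ht : 2 ≤ t) (hm : m ≠ 0) (hu0 : 0 ≤ u)
    (hu : u ^ 2 = t ^ 2 * (4 * m + 1) ^ 2 - 16 * (2 * t - 1) * m ^ 2) :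
    m < 0 ∧ t * (-2 * m - 1) ≤ -4 * m + 1 := by
  have hpar : ∀ v : ℤ, Even (u ^ 2 - v ^ 2) → Even (u - v) := fun v h => by
    rw [Int.even_sub, Int.even_pow' two_ne_zero, Int.even_pow' two_ne_zero] at h
    exact Int.even_sub.mpr h
  rcases lt_trichotomy m 0 with h | h | h
  · refine ⟨h, ?_⟩
    by_contra hlt
    push Not at hlt
    have hT : 0 ≤ t * (-4 * m - 1) + 4 * m - 2 := by nlinarith
    have h1 : u < t * (-4 * m - 1) + 4 * m := by
      refine lt_of_pow_lt_pow_left₀ 2 (by linarith) ?_
      rw [hu]; nlinarith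
    have h2 : t * (-4 * m - 1) + 4 * m - 2 < u := by
      refine lt_of_pow_lt_pow_left₀ 2 hu0 ?_
      rw [hu]; nlinarith
    have h3 := hpar (t * (-4 * m - 1)) ⟨-8 * (2 * t - 1) * m ^ 2, by rw [hu]; ring⟩
    obtain ⟨r, hr⟩ := h3
    omega
  · exact absurd h hm
  · exfalso
    have hT : 0 ≤ t * (4 * m + 1) - 4 * m := by nlinarith
    have h1 : u < t * (4 * m + 1) - 4 * m + 2 := by
      refine lt_of_pow_lt_pow_left₀ 2 (by linarith) ?_
      rw [hu]; nlinarith
    have h2 : t * (4 * m + 1) - 4 * m < u := by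
      refine lt_of_pow_lt_pow_left₀ 2 hu0 ?_
      rw [hu]; nlinarith
    have h3 := hpar (t * (4 * m + 1)) ⟨-8 * (2 * t - 1) * m ^ 2, by rw [hu]; ring⟩
    obtain ⟨r, hr⟩ := h3
    omega

/-- The parameters left by the square condition. -/
theorem arith_cases {t m k : ℤ} (ht : 2 ≤ t) (hm : m ≠ 0)
    (hk : k ^ 2 * (t ^ 2 * (4 * m + 1) ^ 2 - 16 * (2 * t - 1) * m ^ 2) =
      64 * (4 * m + 1) ^ 2 * m ^ 2 * (t - 1) ^ 2) :
    (t = 2 ∧ m = -2) ∨ (t = 3 ∧ m = -1) := by
  have hk0 : k ≠ 0 := by
    rintro rfl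
    simp [hm, sub_eq_zero, show t ≠ 1 by omega, show 4 * m + 1 ≠ 0 by omega] at hk
  obtain ⟨u, hu⟩ : k ∣ 8 * (4 * m + 1) * m * (t - 1) :=
    (Int.pow_dvd_pow_iff two_ne_zero).mp ⟨_, (hk.symm.trans rfl : _) |> fun h => by
      rw [← h]; ring⟩
  have hE : |u| ^ 2 = t ^ 2 * (4 * m + 1) ^ 2 - 16 * (2 * t - 1) * m ^ 2 := by
    refine mul_left_cancel₀ (pow_ne_zero 2 hk0) ?_
    rw [sq_abs, hk]
    linear_combination -(8 * (4 * m + 1) * m * (t - 1) + k * u) * hu
  obtain ⟨hneg, hb⟩ := square_bound ht hm (abs_nonneg u) hE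
  have hv0 : 0 ≤ |u| := abs_nonneg u
  generalize |u| = v at hE hv0
  rcases eq_or_lt_of_le ht with h2 | h3
  · subst h2
    left
    refine ⟨rfl, ?_⟩
    obtain ⟨w, hw⟩ : Even v := (Int.even_pow' two_ne_zero).mp (hE ▸ ⟨8 * m ^ 2 + 16 * m + 2, by ring⟩)
    subst hw
    have h1 : w + w < -4 * m - 4 := by
      refine lt_of_pow_lt_pow_left₀ 2 ?_ ?_
      · by_contra hh
        have : m = -1 := by omega
        subst this
        nlinarith
      · nlinarith
    have h4 : -2 ≤ m := by
      have : w + w ≤ -4 * m - 6 := by omega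
      nlinarith [pow_le_pow_left₀ hv0 this 2]
    omega
  · have hM : -2 ≤ m := by nlinarith
    have ht5 : t ≤ 5 := by
      rcases (show m = -1 ∨ m = -2 by omega) with rfl | rfl <;> omega
    rcases (show m = -1 ∨ m = -2 by omega) with rfl | rfl <;> interval_cases t <;>
      first
        | exact Or.inr ⟨rfl, rfl⟩
        | omega
        | (exfalso
           norm_num at hk
           have hb1 : k ≤ 13 := by nlinarith
           have hb2 : -13 ≤ k := by nlinarith
           interval_cases k <;> norm_num at hk)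

namespace D8

variable {G : Type u} [Group G] [Finite G] (d : D8 G)

theorem swap_B_card : Nat.card d.swap.B = Nat.card d.A := by
  have h : Nat.card d.O = Nat.card d.B * Nat.card d.swap.B := d.swap.card_O
  rw [d.card_O, mul_comm] at h
  exact (Nat.eq_of_mul_eq_mul_left Nat.card_pos h).symm

include d in
theorem eight_dvd : 8 ∣ Nat.card G := d.P_card ▸ card_subgroup_dvd_card (d.P : Subgroup G)

variable [IsSimpleGroup G]

theorem card_dvd_factorial {H : Subgroup G} (h : H ≠ ⊤) : Nat.card G ∣ (H.index).factorial := by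
  have hb : (MulAction.toPermHom G (G ⧸ H)).ker = ⊥ := by
    rcases (MonoidHom.normal_ker (MulAction.toPermHom G (G ⧸ H))).eq_bot_or_eq_top with e | e
    · exact e
    · exfalso
      apply h
      rw [eq_top_iff]
      intro g _
      have : MulAction.toPermHom G (G ⧸ H) g ((1 : G) : G ⧸ H) = ((1 : G) : G ⧸ H) := by
        rw [MonoidHom.mem_ker.mp (e ▸ mem_top g)]; rfl
      simp only [MulAction.toPermHom_apply, MulAction.toPerm_apply, MulAction.Quotient.smul_coe,
        smul_eq_mul, mul_one, QuotientGroup.eq] at this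
      simpa using this
  have := card_dvd_of_injective _ ((MonoidHom.ker_eq_bot_iff _).mp hb)
  rwa [Nat.card_perm] at this

/-- No case with `A` and `B` both nontrivial. -/
theorem both_false (hA : 1 < Nat.card d.A) (hB : 1 < Nat.card d.B) : False := by
  obtain ⟨m, hm, h1, -⟩ := d.main_eqs
  obtain ⟨n, X, hn, hXd, hXn, hK, hW⟩ := d.sub_eqs hA
  obtain ⟨n', X', hn', hXd', hXn', -, hW'⟩ := d.swap.sub_eqs (by rw [swap_A]; exact hB)
  rw [swap_A] at hXd' hW'
  rw [d.swap_B_card] at hXd' hXn' hW'
  have hL := d.L_card hA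
  set a := Nat.card d.A
  set b := Nat.card d.B
  have ha : (0 : ℤ) < a := by exact_mod_cast (show 0 < a by omega)
  have hb : (0 : ℤ) < b := by exact_mod_cast (show 0 < b by omega)
  have key : ∀ (p q N Y : ℤ), 0 < p → 0 < q → Y ∣ p * q → Y * N = q ^ 2 * (2 * N + 1) →
      q * |2 * N + 1| ≤ p * |N| := by
    intro p q N Y hp hq hY h
    have h2 : |Y| * |N| = q * (q * |2 * N + 1|) := by
      rw [← abs_mul, h, abs_mul, abs_of_pos (pow_pos hq 2)]; ring
    have h3 : |Y| ≤ p * q := Int.le_of_dvd (mul_pos hp hq) ((abs_dvd _ _).mpr hY)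
    refine le_of_mul_le_mul_left (a := q) ?_ hq
    rw [← h2]
    calc |Y| * |N| ≤ p * q * |N| := mul_le_mul_of_nonneg_right h3 (abs_nonneg _)
      _ = _ := by ring
  have habs : ∀ N : ℤ, N ≠ 0 → |N| ≤ |2 * N + 1| ∧ (|2 * N + 1| ≤ |N| → N = -1) := by
    intro N hN
    rcases lt_trichotomy N 0 with h | h | h
    · rw [abs_of_neg h, abs_of_neg (show 2 * N + 1 < 0 by omega)]; omega
    · exact absurd h hN
    · rw [abs_of_pos h, abs_of_pos (show 0 < 2 * N + 1 by omega)]; omega
  have k1 := key a b n X ha hb (by exact_mod_cast hXd) hXn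
  have k2 := key b a n' X' hb ha (by exact_mod_cast hXd') hXn'
  obtain ⟨p1, p1'⟩ := habs n hn
  obtain ⟨p2, p2'⟩ := habs n' hn'
  have hnp : 0 < |n| := abs_pos.mpr hn
  have hnp' : 0 < |n'| := abs_pos.mpr hn'
  have hab1 : (b : ℤ) ≤ a := le_of_mul_le_mul_right
    (le_trans (mul_le_mul_of_nonneg_left p1 hb.le) k1) hnp
  have hab2 : (a : ℤ) ≤ b := le_of_mul_le_mul_right
    (le_trans (mul_le_mul_of_nonneg_left p2 ha.le) k2) hnp'
  have hab : a = b := by omega
  have hn1 : n = -1 := p1' (le_of_mul_le_mul_left (by rw [hab] at k1; exact k1) hb)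
  have hn1' : n' = -1 := p2' (le_of_mul_le_mul_left (by rw [hab] at k2; exact k2) hb)
  obtain ⟨hLW, hWodd⟩ := hW hn1 hab
  obtain ⟨hLW', -⟩ := hW' hn1' hab.symm
  rw [swap_W] at hLW'
  rw [← hab] at h1 hK
  have hKc : (Nat.card d.L : ℤ) = 24 * (a : ℤ) ^ 4 := by
    rw [hn1] at hK; rw [hL]; push_cast; linear_combination 2 * hK
  obtain ⟨i, hi⟩ := card_subgroup_dvd_card d.L
  rw [hi] at h1
  push_cast at h1
  rw [hKc] at h1
  have h3 : 3 * (i : ℤ) * m ^ 2 = (8 * m + 1) * (4 * m + 1) := by
    refine mul_left_cancel₀ (mul_ne_zero (by norm_num : (8 : ℤ) ≠ 0) (pow_ne_zero 4 ha.ne')) ?_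
    linear_combination h1
  have hu : IsUnit m := by
    have hcop : IsCoprime m ((8 * m + 1) * (4 * m + 1)) :=
      (IsCoprime.mul_right ⟨-8, 1, by ring⟩ ⟨-4, 1, by ring⟩)
    exact hcop.isUnit_of_dvd' dvd_rfl ⟨3 * i * m, by linear_combination -h3⟩
  have hi' : i = 15 ∨ i = 7 := by
    rcases Int.isUnit_iff.mp hu with rfl | rfl <;> norm_num at h3 <;> omega
  -- the normalizer of `W`
  set N := normalizer (d.W : Set G) with hN
  obtain ⟨j, hj⟩ := card_dvd_of_le hLW
  have hj1 : j ≠ 1 := by
    rintro rfl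
    rw [mul_one] at hj
    have hNL : d.L = N := eq_of_le_of_card_ge hLW hj.le
    obtain ⟨y, hy, hy1, -⟩ := d.swap.exists_y (by rw [swap_A]; exact hB)
    have hyL : y ∈ d.L := hNL ▸ hLW' (d.swap.K_le_L hy)
    have h := d.K_conj hA hyL (d.V_le_K d.z_mem_V)
    rw [show y * d.z * y⁻¹ = d.σ * d.τ from hy1] at h
    exact d.στ_not_K hA h
  have hL0 : 0 < Nat.card d.L := Nat.card_pos
  have hidx : j * N.index = i := by
    apply Nat.eq_of_mul_eq_mul_left hL0
    rw [← hi, ← mul_assoc, ← hj, N.card_mul_index]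
  have hk : N.index = 1 ∨ N.index = 3 ∨ N.index = 5 := by
    have hdvd : N.index ∣ i := Dvd.intro_left _ hidx
    rcases hi' with rfl | rfl
    · have := Nat.le_of_dvd (by norm_num) hdvd
      interval_cases hh : N.index <;> first | omega | (norm_num at hdvd)
    · have := Nat.le_of_dvd (by norm_num) hdvd
      interval_cases hh : N.index <;> first | omega | (norm_num at hdvd)
  by_cases hNtop : N = ⊤
  · have hWn : (d.W).Normal := normalizer_eq_top_iff.mp hNtop
    rcases hWn.eq_bot_or_eq_top with e | e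
    · have hO : d.O ≤ d.W := le_iSup₂_of_le (f := fun v (_ : v ∈ {v : G | v ∈ (d.P : Subgroup G) ∧
        orderOf v = 2}) => oddPart v) d.z ⟨d.z_mem_P, d.zo⟩ (le_of_eq d.oddPart_z.symm)
      have := card_dvd_of_le ((d.A_le_O).trans (hO.trans (le_of_eq e)))
      rw [card_bot, Nat.dvd_one] at this
      omega
    · rw [e, card_top] at hWodd
      exact absurd hWodd (Nat.not_odd_iff_even.mpr (even_iff_two_dvd.mpr
        ((show 2 ∣ 8 by norm_num).trans d.eight_dvd)))
  · have hdf := card_dvd_factorial hNtop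
    have hbig : 120 < Nat.card G := by
      rw [hi]
      have : (81 : ℤ) ≤ (a : ℤ) ^ 4 := by
        have : 3 ≤ a := by
          obtain ⟨r, hr⟩ := d.A_odd
          omega
        calc (81 : ℤ) = 3 ^ 4 := by norm_num
          _ ≤ _ := pow_le_pow_left₀ (by norm_num) (by exact_mod_cast this) 4
      have : (120 : ℤ) < (Nat.card d.L * i : ℕ) := by
        push_cast
        rw [hKc]
        rcases hi' with rfl | rfl <;> push_cast <;> linarith
      exact_mod_cast this
    have hle : Nat.card G ≤ (N.index).factorial := Nat.le_of_dvd (Nat.factorial_pos _) hdf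
    rcases hk with e | e | e <;> rw [e] at hle <;> simp [Nat.factorial] at hle <;> omega

/-- The case `b = 1 < a`. -/
theorem single (hA : 1 < Nat.card d.A) (hB : Nat.card d.B = 1) : Nat.card G = 2520 := by
  obtain ⟨m, hm, h1, k, hk⟩ := d.main_eqs
  obtain ⟨n, X, hn, hXd, hXn, hK, -⟩ := d.sub_eqs hA
  rw [hB] at h1 hk hXd hXn hK
  obtain ⟨r, hr⟩ := d.A_odd
  set t : ℤ := r + 1 with ht
  have hat : (Nat.card d.A : ℤ) = 2 * t - 1 := by rw [hr, ht]; push_cast; ring
  rw [hat] at h1 hk hK
  push_cast at h1 hk hK hXn hXd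
  have hk' : k ^ 2 * (t ^ 2 * (4 * m + 1) ^ 2 - 16 * (2 * t - 1) * m ^ 2) =
      64 * (4 * m + 1) ^ 2 * m ^ 2 * (t - 1) ^ 2 := by
    refine mul_left_cancel₀ (show (4 : ℤ) ≠ 0 by norm_num) ?_
    linear_combination hk
  rcases arith_cases (by omega) hm hk' with ⟨e1, rfl⟩ | ⟨e1, rfl⟩ <;> rw [e1] at h1 hK hat <;>
    norm_num at h1 hK hat
  · omega
  · exfalso
    have hG : Nat.card G = 7560 := by omega
    have hA5 : Nat.card d.A = 5 := by omega
    rw [hA5, mul_one] at hXd
    have hn1 : n = -1 := by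
      rw [one_mul] at hXn
      have : IsUnit n := isUnit_of_dvd_one ⟨X - 2, by linear_combination -hXn⟩
      rcases Int.isUnit_iff.mp this with rfl | rfl
      · exfalso
        have : X = 3 := by omega
        rw [this] at hXd
        norm_num at hXd
      · rfl
    subst hn1
    norm_num at hK
    have hK60 : Nat.card d.K = 60 := by omega
    have hL120 : Nat.card d.L = 120 := by rw [d.L_card hA, hK60]
    haveI : Fact (Nat.Prime 5) := ⟨by norm_num⟩
    have hpA : IsPGroup 5 d.A := IsPGroup.of_card (n := 1) (by rw [hA5, pow_one])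
    have hidx5 : ¬ 5 ∣ d.A.index := by
      have := d.A.card_mul_index
      rw [hA5, hG] at this
      omega
    set S : Sylow 5 G := hpA.toSylow hidx5 with hS
    have hSA : (S : Subgroup G) = d.A := rfl
    have hLN : d.L ≤ normalizer (d.A : Set G) := by
      have hconj : ∀ l ∈ d.L, ∀ x ∈ d.A, l * x * l⁻¹ ∈ d.A := by
        rintro l (hl | hl) x hx
        · rw [hl x hx]; exact hx
        · rw [hl x hx]; exact inv_mem hx
      intro l hl
      rw [mem_normalizer_iff]
      refine fun x => ⟨hconj l hl x, fun h => ?_⟩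
      have := hconj l⁻¹ (inv_mem hl) _ h
      rwa [show l⁻¹ * (l * x * l⁻¹) * l⁻¹⁻¹ = x by group] at this
    obtain ⟨j, hj⟩ := card_dvd_of_le hLN
    have hmul := (normalizer (d.A : Set G)).card_mul_index
    rw [hj, hL120, hG] at hmul
    have hmod : (normalizer (d.A : Set G)).index % 5 = 1 := by
      have h : Nat.card (Sylow 5 G) % 5 = 1 % 5 := card_sylow_modEq_one 5 G
      rw [S.card_eq_index_normalizer] at h
      exact h
    have hdvd : (normalizer (d.A : Set G)).index ∣ 63 := ⟨j, by
      apply Nat.eq_of_mul_eq_mul_left (show 0 < 120 by norm_num)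
      rw [show 120 * 63 = 7560 by norm_num, ← hmul]; ring⟩
    have hle := Nat.le_of_dvd (by norm_num) hdvd
    have hcases : (normalizer (d.A : Set G)).index = 1 ∨ (normalizer (d.A : Set G)).index = 21 := by
      interval_cases hh : (normalizer (d.A : Set G)).index <;>
        first | omega | (norm_num at hdvd)
    rcases hcases with e | e
    · have hn : d.A.Normal := normalizer_eq_top_iff.mp (index_eq_one.mp e)
      rcases hn.eq_bot_or_eq_top with e' | e'
      · rw [e', card_bot] at hA5; omega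
      · rw [e', card_top, hG] at hA5; omega
    · -- `N(A)/C(A)` has at most five elements
      classical
      have hN : Nat.card (normalizer (d.A : Set G)) = 360 := by
        rw [e] at hmul; rw [hj, hL120]; omega
      obtain ⟨⟨a0, ha0⟩, hne⟩ : ∃ a : d.A, a ≠ 1 := by
        haveI : Nontrivial d.A := Finite.one_lt_card_iff_nontrivial.mp hA
        exact exists_ne 1
      have hgenA : zpowers a0 = d.A := by
        refine eq_of_le_of_card_ge (zpowers_le.mpr ha0) ?_
        rw [hA5, Nat.card_zpowers]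
        have h := d.A.orderOf_dvd_natCard ha0
        rw [hA5] at h
        rcases (Nat.dvd_prime (by norm_num)).mp h with h' | h'
        · exact absurd (Subtype.ext (orderOf_eq_one_iff.mp h')) hne
        · exact h'.ge
      have hfix : ∀ g : G, g * a0 * g⁻¹ = a0 → g ∈ d.K := by
        intro g hg
        rw [mem_K]
        intro x hx
        rw [← hgenA] at hx
        obtain ⟨i, rfl⟩ := hx
        exact ((show Commute g a0 from mul_inv_eq_iff_eq_mul.mp hg).zpow_right i).eq
      let f : normalizer (d.A : Set G) → d.A := fun g =>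
        ⟨g * a0 * (g : G)⁻¹, (mem_normalizer_iff.mp g.2 a0).mp ha0⟩
      let F : normalizer (d.A : Set G) → d.A × d.K := fun g =>
        (f g, ⟨((Function.invFun f (f g) : normalizer (d.A : Set G)) : G)⁻¹ * g, by
          apply hfix
          have h := congrArg Subtype.val (Function.invFun_eq (f := f) ⟨g, rfl⟩)
          change ((Function.invFun f (f g) : normalizer (d.A : Set G)) : G) * a0 *
            ((Function.invFun f (f g) : normalizer (d.A : Set G)) : G)⁻¹ = (g : G) * a0 * (g : G)⁻¹ at h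
          generalize ((Function.invFun f (f g) : normalizer (d.A : Set G)) : G) = r0 at h ⊢
          calc r0⁻¹ * (g : G) * a0 * (r0⁻¹ * (g : G))⁻¹
              = r0⁻¹ * ((g : G) * a0 * (g : G)⁻¹) * r0 := by group
            _ = r0⁻¹ * (r0 * a0 * r0⁻¹) * r0 := by rw [h]
            _ = a0 := by group⟩)
      have hFi : Function.Injective F := by
        intro g g' h
        obtain ⟨h1, h2⟩ := Prod.mk.injEq .. |>.mp h
        have := congrArg Subtype.val h2
        simp only [h1] at this
        exact Subtype.ext (mul_left_cancel this)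
      have hle' := Nat.card_le_card_of_injective F hFi
      rw [Nat.card_prod, hN, hA5, hK60] at hle'
      omega

include d in
/-- The order of the group. -/
theorem order_cases : Nat.card G = 168 ∨ Nat.card G = 360 ∨ Nat.card G = 2520 := by
  have ha : 0 < Nat.card d.A := Nat.card_pos
  have hb : 0 < Nat.card d.B := Nat.card_pos
  by_cases hA : Nat.card d.A = 1
  · by_cases hB : Nat.card d.B = 1
    · obtain ⟨m, hm, h1, -⟩ := d.main_eqs
      rw [hA, hB] at h1
      norm_num at h1
      have hcop : IsCoprime (m ^ 2) ((8 * m + 1) * (4 * m + 1)) :=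
        (IsCoprime.mul_right ⟨-8, 1, by ring⟩ ⟨-4, 1, by ring⟩ : IsCoprime m _).pow_left
      have hd : m ^ 2 ∣ 8 := hcop.dvd_of_dvd_mul_right ⟨Nat.card G, by linear_combination -h1⟩
      have := Int.le_of_dvd (by norm_num) hd
      have : -2 ≤ m := by nlinarith
      have : m ≤ 2 := by nlinarith
      obtain ⟨c, hc⟩ := d.eight_dvd
      interval_cases m <;> (try norm_num at h1 hd) <;> omega
    · exact Or.inr (Or.inr (d.swap.single (by rw [swap_A]; omega) (by rw [swap_B_card]; exact hA)))
  · by_cases hB : Nat.card d.B = 1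
    · exact Or.inr (Or.inr (d.single (by omega) hB))
    · exact (d.both_false (by omega) (by omega)).elim

end D8

end CfsgLib.SmallCent31
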