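import Cfsg.Agent.Lib.SmallCent31.Transfer
import Cfsg.Agent.Lib.Involutions.Transfer
import Cfsg.Agent.Lib.TwoGroups85.MaxClass
import Cfsg.Agent.Lib.TwoGroups.Semidihedral
import Cfsg.Agent.S0112
import Cfsg.Agent.S0201
import Cfsg.Agent.S0252
import Cfsg.Agent.S1230
import Cfsg.Agent.S3224
import Cfsg.Agent.S3331

/-!
# Simple groups with an element whose centralizer has order at most four: the reduction

Either the group is `A₅` or `PSL(2,7)`, or it has a dihedral Sylow `2`-subgroup of order eight
whose rotations are self-centralizing.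
-/

set_option autoImplicit false
set_option linter.style.haveILetI false
set_option linter.unusedSectionVars false

namespace CfsgLib.SmallCent31

open Subgroup CfsgLib.TwoGroups.SD

universe u

variable {G : Type u} [Group G] [Finite G] [IsSimpleGroup G]

/-- The conclusion of the reduction. -/
def ReduceConcl (G : Type u) [Group G] : Prop :=
  Nonempty (G ≃* ↥(alternatingGroup (Fin 5))) ∨
  (∃ (F : Type) (_ : Field F) (_ : Fintype F), Fintype.card F = 7 ∧
    Nonempty (G ≃* Matrix.ProjectiveSpecialLinearGroup (Fin 2) F)) ∨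
  ∃ (P : Sylow 2 G) (σ : G), σ ∈ (P : Subgroup G) ∧ orderOf σ = 4 ∧
    Nonempty ((P : Subgroup G) ≃* DihedralGroup 4) ∧
    centralizer ({σ} : Set G) = zpowers σ

theorem orderOf_conj31 {H : Type u} [Group H] (g x : H) : orderOf (g * x * g⁻¹) = orderOf x :=
  (MulAut.conj g).orderOf_eq x

theorem not_comm (hG : ¬ IsCyclic G) : ¬ IsMulCommutative G := by
  intro h
  letI : CommGroup G := { (inferInstance : Group G) with mul_comm := h.is_comm.comm }
  exact hG IsSimpleGroup.isCyclic

theorem normal_cases {N : Subgroup G} (hN : N.Normal) : N = ⊥ ∨ N = ⊤ := hN.eq_bot_or_eq_top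

theorem no_index_two (hG : ¬ IsCyclic G) {H : Subgroup G} (hH : H.index = 2) : False := by
  haveI := Subgroup.normal_of_index_eq_two hH
  rcases normal_cases (N := H) inferInstance with e | e
  · rw [e, index_bot] at hH
    haveI : Fact (Nat.Prime 2) := ⟨Nat.prime_two⟩
    exact hG (isCyclic_of_prime_card hH)
  · rw [e, index_top] at hH; omega

theorem sylow_not_cyclic (hG : ¬ IsCyclic G) (P : Sylow 2 G) {x : G} (hx : x ∈ (P : Subgroup G))
    (hx1 : x ≠ 1) : ¬ IsCyclic (P : Subgroup G) := by
  intro hc
  have h2 : 2 ∣ Nat.card (P : Subgroup G) := by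
    obtain ⟨k, hk⟩ := IsPGroup.iff_card.mp P.isPGroup'
    rcases k with _ | k
    · exfalso
      have := Subgroup.eq_bot_of_card_eq _ (by simpa using hk)
      rw [this] at hx
      exact hx1 (mem_bot.mp hx)
    · rw [hk]; exact dvd_pow_self 2 k.succ_ne_zero
  obtain ⟨H, hH⟩ := CfsgLib.Involutions.exists_index_two_of_cyclic_sylow
    (even_iff_two_dvd.mpr (h2.trans (card_subgroup_dvd_card _))) P hc
  exact no_index_two hG hH

/-- The centre of the Sylow subgroup in the centraliser of an element. -/
theorem center_le_centralizer (P : Sylow 2 G) {x : G} (hx : x ∈ (P : Subgroup G))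
    (z : (P : Subgroup G)) (hz : z ∈ center (P : Subgroup G)) :
    (z : G) ∈ centralizer ({x} : Set G) := by
  rw [mem_centralizer_singleton_iff]
  exact congrArg Subtype.val ((mem_center_iff.mp hz) ⟨x, hx⟩).symm

omit [IsSimpleGroup G] in
theorem card_centralizer_sub {P : Subgroup G} {x : G} (hx : x ∈ P)
    (hCP : centralizer ({x} : Set G) ≤ P) :
    Nat.card (centralizer ({(⟨x, hx⟩ : P)} : Set P)) = Nat.card (centralizer ({x} : Set G)) := by
  refine Nat.card_congr ⟨fun a => ⟨(a : P), ?_⟩, fun a => ⟨⟨a, hCP a.2⟩, ?_⟩, fun a => rfl,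
    fun a => rfl⟩
  · have := a.2
    rw [mem_centralizer_singleton_iff] at this ⊢
    exact congrArg Subtype.val this
  · rw [mem_centralizer_singleton_iff]
    exact Subtype.ext (mem_centralizer_singleton_iff.mp a.2)

omit [IsSimpleGroup G] in
theorem card_centralizer_sub_le {P : Subgroup G} (x : P) :
    Nat.card (centralizer ({x} : Set P)) ≤ Nat.card (centralizer ({(x : G)} : Set G)) := by
  refine Nat.card_le_card_of_injective
    (fun a => (⟨((a : P) : G), ?_⟩ : centralizer ({(x : G)} : Set G))) ?_
  · rw [mem_centralizer_singleton_iff]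
    exact congrArg Subtype.val (mem_centralizer_singleton_iff.mp a.2)
  · intro a b h
    exact Subtype.ext (Subtype.ext (congrArg (fun c : centralizer _ => (c : G)) h))

theorem zpowers_le_centralizer (w : G) : zpowers w ≤ centralizer ({w} : Set G) :=
  zpowers_le.mpr (mem_centralizer_singleton_iff.mpr rfl)

theorem case_two (hG : ¬ IsCyclic G) {w : G} (hw : w ≠ 1)
    (h : Nat.card (centralizer ({w} : Set G)) = 2) : False := by
  haveI : Fact (Nat.Prime 2) := ⟨Nat.prime_two⟩
  have hC : IsPGroup 2 (centralizer ({w} : Set G)) :=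
    IsPGroup.of_card (n := 1) (by simpa using h)
  obtain ⟨P, hP⟩ := hC.exists_le_sylow
  have hwP : w ∈ (P : Subgroup G) := hP (zpowers_le_centralizer w (mem_zpowers w))
  -- the centre is inside the centralizer, so `w` is central
  have hnt : Nontrivial (P : Subgroup G) :=
    ⟨⟨⟨w, hwP⟩, 1, fun e => hw (congrArg Subtype.val e)⟩⟩
  haveI := P.isPGroup'.center_nontrivial
  obtain ⟨⟨z, hz⟩, hz1⟩ := exists_ne (1 : center (P : Subgroup G))
  have hzC := center_le_centralizer P hwP z hz
  have hzw : (z : G) = w := by
    haveI := (Nat.card_eq_two_iff' (⟨1, one_mem _⟩ : centralizer ({w} : Set G))).mp h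
    obtain ⟨c, -, hc⟩ := this
    have e1 := hc ⟨z, hzC⟩ (fun e => hz1 (Subtype.ext (Subtype.ext (show (z : G) = 1 from congrArg Subtype.val e))))
    have e2 := hc ⟨w, zpowers_le_centralizer w (mem_zpowers w)⟩
      (fun e => hw (congrArg Subtype.val e))
    exact congrArg Subtype.val (e1.trans e2.symm)
  have hle : (P : Subgroup G) ≤ centralizer ({w} : Set G) := by
    intro a ha
    rw [mem_centralizer_singleton_iff, ← hzw]
    exact congrArg Subtype.val ((mem_center_iff.mp hz) ⟨a, ha⟩)
  have hP2 : (P : Subgroup G) = centralizer ({w} : Set G) := le_antisymm hle hP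
  exact sylow_not_cyclic hG P hwP hw (isCyclic_of_prime_card (p := 2) (by rw [hP2]; exact h))

theorem case_three (hG : ¬ IsCyclic G) {w : G} (hw : w ≠ 1)
    (h : Nat.card (centralizer ({w} : Set G)) = 3) :
    Nonempty (G ≃* ↥(alternatingGroup (Fin 5))) ∨
    (∃ (F : Type) (_ : Field F) (_ : Fintype F), Fintype.card F = 7 ∧
      Nonempty (G ≃* Matrix.ProjectiveSpecialLinearGroup (Fin 2) F)) := by
  haveI : Fact (Nat.Prime 3) := ⟨Nat.prime_three⟩
  set X := centralizer ({w} : Set G) with hX
  have hwX : w ∈ X := zpowers_le_centralizer w (mem_zpowers w)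
  have hwo : orderOf w = 3 := by
    have := (Nat.dvd_prime Nat.prime_three).mp (h ▸ X.orderOf_dvd_natCard hwX)
    rcases this with e | e
    · exact absurd (orderOf_eq_one_iff.mp e) hw
    · exact e
  have hXz : X = zpowers w := (eq_of_le_of_card_ge (zpowers_le.mpr hwX)
    (by rw [Nat.card_zpowers, hwo, h])).symm
  have hCX : centralizer (X : Set G) = X := by
    conv_lhs => rw [hXz, zpowers_eq_closure, centralizer_closure]
  have hne : ¬ Group.IsNilpotent G := by
    intro hn
    apply not_comm hG
    have hc : center G = ⊤ := by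
      rcases normal_cases (N := center G) inferInstance with e | e
      · exact absurd e (Group.IsNilpotent.center_ne_bot G)
      · exact e
    exact ⟨⟨fun a b => (mem_center_iff.mp (hc ▸ mem_top b) a)⟩⟩
  rcases Cfsg.Agent.S3331.result X h hCX with ⟨N, hN, hnil, -, hq⟩ | ⟨N, hN, hcomm, -, ⟨e⟩⟩ | hP
  · rcases normal_cases hN with e | e
    · subst e
      have eG : (G ⧸ (⊥ : Subgroup G)) ≃* G := QuotientGroup.quotientBot
      rcases hq with h3 | e'
      · rw [Nat.card_congr eG.toEquiv] at h3
        exact absurd (isCyclic_of_prime_card h3) hG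
      · exfalso
        have he := eG.symm.trans e'.some
        haveI : IsSimpleGroup (Equiv.Perm (Fin 3)) := IsSimpleGroup.isSimpleGroup_of_surjective
          he.toMonoidHom he.surjective
        haveI : (alternatingGroup (Fin 3)).Normal := inferInstance
        rcases (inferInstance : (alternatingGroup (Fin 3)).Normal).eq_bot_or_eq_top with h' | h'
        · have := congrArg (fun H : Subgroup (Equiv.Perm (Fin 3)) => Nat.card H) h'
          simp only [nat_card_alternatingGroup, card_bot, Fintype.card_fin] at this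
          simp [Nat.factorial] at this
        · have hi := alternatingGroup.index_eq_two (α := Fin 3)
          rw [h', index_top] at hi
          omega
    · subst e
      exact absurd (Group.nilpotent_of_mulEquiv Subgroup.topEquiv) hne
  · rcases normal_cases hN with e' | e'
    · subst e'
      exact Or.inl ⟨QuotientGroup.quotientBot.symm.trans e⟩
    · subst e'
      exfalso
      apply not_comm hG
      exact ⟨⟨fun a b => congrArg Subtype.val
        (hcomm.is_comm.comm (⟨a, mem_top a⟩ : (⊤ : Subgroup G)) ⟨b, mem_top b⟩)⟩⟩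
  · haveI : Fact (Nat.Prime 7) := ⟨by norm_num⟩
    exact Or.inr ⟨ZMod 7, inferInstance, inferInstance, ZMod.card 7, hP⟩

theorem orderOf_eq_two_or_four {w : G} (hw : w ≠ 1)
    (h : Nat.card (centralizer ({w} : Set G)) = 4) : orderOf w = 2 ∨ orderOf w = 4 := by
  have hd : orderOf w ∣ 2 ^ 2 := by
    have := (centralizer ({w} : Set G)).orderOf_dvd_natCard
      (zpowers_le_centralizer w (mem_zpowers w))
    rwa [h] at this
  obtain ⟨i, hi, e⟩ := (Nat.dvd_prime_pow Nat.prime_two).mp hd
  interval_cases i
  · exact absurd (orderOf_eq_one_iff.mp (by simpa using e)) hw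
  · exact Or.inl (by simpa using e)
  · exact Or.inr (by simpa using e)

/-- In a group with a cyclic subgroup of index two the involution of that subgroup is central. -/
theorem central_of_index_two {S : Type u} [Group S] [Finite S] {x : S}
    (hx : (zpowers x).index = 2) {z : S} (hz : z ∈ zpowers x) (hzo : orderOf z = 2) :
    z ∈ center S := by
  haveI := normal_of_index_eq_two hx
  rw [mem_center_iff]
  intro g
  have h1 : g * z * g⁻¹ ∈ zpowers x := Normal.conj_mem inferInstance z hz g
  have h2 : orderOf (g * z * g⁻¹) = 2 := by rw [orderOf_conj31, hzo]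
  have h3 := congrArg Subtype.val (CfsgLib.Involutions.involution_unique_of_cyclic
    (C := zpowers x) (a := ⟨g * z * g⁻¹, h1⟩) (b := ⟨z, hz⟩)
    (by rw [← orderOf_coe]; exact h2) (by rw [← orderOf_coe]; exact hzo))
  exact (mul_inv_eq_iff_eq_mul.mp h3)

theorem case_involution (hG : ¬ IsCyclic G) {w : G} (hwo : orderOf w = 2)
    (h : Nat.card (centralizer ({w} : Set G)) = 4) :
    Nonempty (G ≃* ↥(alternatingGroup (Fin 5))) := by
  haveI : Fact (Nat.Prime 2) := ⟨Nat.prime_two⟩
  set C := centralizer ({w} : Set G) with hCdef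
  have hw : w ≠ 1 := fun e => by simp [e] at hwo
  have hC : IsPGroup 2 C := IsPGroup.of_card (n := 2) (by simpa using h)
  obtain ⟨P, hP⟩ := hC.exists_le_sylow
  have hwC : w ∈ C := zpowers_le_centralizer w (mem_zpowers w)
  have hwP : w ∈ (P : Subgroup G) := hP hwC
  have hCcomm : ∀ a ∈ C, ∀ b ∈ C, a * b = b * a := by
    have := IsPGroup.commutative_of_card_eq_prime_sq (p := 2) (G := C) (by simpa using h)
    exact fun a ha b hb => congrArg Subtype.val (this (⟨a, ha⟩ : C) ⟨b, hb⟩)
  obtain ⟨k, hk⟩ := IsPGroup.iff_card.mp P.isPGroup'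
  have hcP := card_centralizer_sub (P := (P : Subgroup G)) hwP hP
  rw [← hCdef, h] at hcP
  have hwo' : orderOf (⟨w, hwP⟩ : (P : Subgroup G)) = 2 := by rw [← orderOf_coe]; exact hwo
  rcases Nat.lt_or_ge k 3 with hk3 | hk3
  · -- the Sylow subgroup is the centralizer
    have hPC : (P : Subgroup G) = C := by
      refine (eq_of_le_of_card_ge hP ?_).symm
      rw [hk, h]
      calc 2 ^ k ≤ 2 ^ 2 := Nat.pow_le_pow_right two_pos (by omega)
        _ = 4 := rfl
    have hnc : ¬ IsCyclic (P : Subgroup G) := sylow_not_cyclic hG P hwP hw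
    have hexp : ∀ a ∈ C, a ^ 2 = 1 := by
      intro a ha
      have hd : orderOf a ∣ 2 ^ 2 := by
        have := C.orderOf_dvd_natCard ha
        rwa [h] at this
      obtain ⟨i, hi, e⟩ := (Nat.dvd_prime_pow Nat.prime_two).mp hd
      interval_cases i
      · simp [orderOf_eq_one_iff.mp (by simpa using e)]
      · rw [← orderOf_dvd_iff_pow_eq_one]; simp [e]
      · exfalso
        apply hnc
        rw [hPC]
        exact isCyclic_of_orderOf_eq_card (⟨a, ha⟩ : C)
          (by rw [← orderOf_coe, e, h]; rfl)
    have hnn : ¬ (P : Subgroup G).Normal := by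
      intro hn
      rcases normal_cases hn with e | e
      · rw [e] at hwP; exact hw (mem_bot.mp hwP)
      · apply not_comm hG
        refine ⟨⟨fun a b => hCcomm a ?_ b ?_⟩⟩ <;> rw [← hPC, e] <;> exact mem_top _
    have hidx := fun t (ht : orderOf t = 2) =>
      CfsgLib.Transfer.thompson_transfer (G := G) P (zpowers w) (by
        have h1 := Subgroup.relIndex_mul_index (H := zpowers w) (K := (P : Subgroup G))
          (zpowers_le.mpr hwP)
        have h2 := (zpowers w).card_mul_index
        have h3 := (P : Subgroup G).card_mul_index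
        rw [Nat.card_zpowers, hwo] at h2
        rw [hPC, h] at h3
        have hpos : 0 < (P : Subgroup G).index := by
          rcases Nat.eq_zero_or_pos (P : Subgroup G).index with e | e
          · exact absurd e Subgroup.index_ne_zero_of_finite
          · exact e
        rw [hPC] at hpos ⊢
        rw [hPC] at h1
        nlinarith) t (ht ▸ pow_orderOf_eq_one t)
    -- all involutions are conjugate to `w`
    have hall : ∀ t : G, orderOf t = 2 → IsConj w t := by
      intro t ht
      by_contra hcon
      obtain ⟨M, -, hM, -⟩ := hidx t ht (fun g _ hg => by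
        have : g * t * g⁻¹ = w := by
          have h1 := congrArg Subtype.val (CfsgLib.Involutions.involution_unique_of_cyclic
            (C := zpowers w) (a := ⟨_, hg⟩) (b := ⟨w, mem_zpowers w⟩)
            (by rw [← orderOf_coe]; simp [orderOf_conj31, ht])
            (by rw [← orderOf_coe]; exact hwo))
          exact h1
        exact hcon (isConj_comm.mp (isConj_iff.mpr ⟨g, this⟩)))
      exact no_index_two hG hM
    have hCall : ∀ t : G, orderOf t = 2 → IsMulCommutative (centralizer ({t} : Set G)) ∧
        ∀ c ∈ centralizer ({t} : Set G), c ^ 2 = 1 := by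
      intro t ht
      obtain ⟨g, hg⟩ := isConj_iff.mp (hall t ht)
      have hmem : ∀ c ∈ centralizer ({t} : Set G), g⁻¹ * c * g ∈ C := by
        intro c hc
        rw [mem_centralizer_singleton_iff] at hc
        rw [hCdef, mem_centralizer_singleton_iff]
        subst hg
        calc g⁻¹ * c * g * w = g⁻¹ * (c * (g * w * g⁻¹)) * g := by group
          _ = g⁻¹ * ((g * w * g⁻¹) * c) * g := by rw [hc]
          _ = w * (g⁻¹ * c * g) := by group
      refine ⟨⟨⟨fun a b => Subtype.ext ?_⟩⟩, fun c hc => ?_⟩
      · have := hCcomm _ (hmem a a.2) _ (hmem b b.2)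
        calc ((a * b : centralizer ({t} : Set G)) : G)
            = g * ((g⁻¹ * a * g) * (g⁻¹ * b * g)) * g⁻¹ := by push_cast; group
          _ = g * ((g⁻¹ * b * g) * (g⁻¹ * a * g)) * g⁻¹ := by rw [this]
          _ = _ := by push_cast; group
      · calc c ^ 2 = g * (g⁻¹ * c * g) ^ 2 * g⁻¹ := by rw [pow_two, pow_two]; group
          _ = 1 := by rw [hexp _ (hmem c hc)]; group
    obtain ⟨F, hF, hF', hcard, ⟨e⟩⟩ := Cfsg.Agent.S1230.result P hnc hnn hCall
    rw [hPC, h] at hcard
    obtain ⟨e'⟩ := Cfsg.Agent.S0252.result (F := F) hcard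
    exact ⟨e.trans e'⟩
  · exfalso
    set S := ((P : Subgroup G) : Type u)
    have hk8 : 8 ≤ Nat.card (P : Subgroup G) := by
      rw [hk]; exact le_trans (by norm_num) (Nat.pow_le_pow_right two_pos hk3)
    obtain ⟨x, hx⟩ : ∃ x : (P : Subgroup G),
        2 * orderOf x = Nat.card (P : Subgroup G) := by
      rcases Cfsg.Agent.S3224.result P.isPGroup' ⟨w, hwP⟩ hwo' hcP with ⟨n, ⟨e⟩⟩ | hQ | h4
      · refine ⟨e.symm (DihedralGroup.r 1), ?_⟩
        rw [MulEquiv.orderOf_eq, DihedralGroup.orderOf_r_one, Nat.card_congr e.toEquiv,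
          DihedralGroup.nat_card]
      · obtain ⟨n, -, hc, a, b, ha, -, -⟩ := hQ
        exact ⟨a, by rw [ha, hc, pow_succ, mul_comm]⟩
      · omega
    have hxi : (zpowers x).index = 2 := by
      have := (zpowers x).card_mul_index
      rw [Nat.card_zpowers] at this
      have : orderOf x * (zpowers x).index = orderOf x * 2 := by rw [this, ← hx, mul_comm]
      exact Nat.eq_of_mul_eq_mul_left (orderOf_pos x) this
    have h4x : 4 ≤ orderOf x := by omega
    have hwx : (⟨w, hwP⟩ : (P : Subgroup G)) ∉ zpowers x := by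
      intro hm
      have hle : zpowers x ≤ centralizer ({(⟨w, hwP⟩ : (P : Subgroup G))} : Set _) := by
        refine zpowers_le.mpr (mem_centralizer_singleton_iff.mpr ?_)
        obtain ⟨i, hi⟩ := hm
        rw [← hi]
        exact ((Commute.refl x).zpow_right i).eq
      have heq := eq_of_le_of_card_ge hle (by rw [hcP, Nat.card_zpowers]; exact h4x)
      -- the four group is not cyclic
      have hxC : x ∈ centralizer ({(⟨w, hwP⟩ : (P : Subgroup G))} : Set _) :=
        heq ▸ mem_zpowers x
      have hxo : orderOf x = 4 := by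
        have := (Nat.card_zpowers x).symm.trans (heq ▸ hcP)
        exact this
      have hxC' : (x : G) ∈ C := by
        rw [hCdef, mem_centralizer_singleton_iff]
        exact congrArg Subtype.val (mem_centralizer_singleton_iff.mp hxC)
      -- `C` would be cyclic and `w` would be central in `P`
      have hCx : C = zpowers (x : G) := (eq_of_le_of_card_ge (zpowers_le.mpr hxC')
        (by rw [Nat.card_zpowers, orderOf_coe, hxo, h])).symm
      have hcen := central_of_index_two hxi hm hwo'
      have : (P : Subgroup G) ≤ C := by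
        intro a ha
        rw [hCdef, mem_centralizer_singleton_iff]
        exact congrArg Subtype.val (mem_center_iff.mp hcen ⟨a, ha⟩)
      have := card_le_of_le this
      omega
    set Q := (zpowers x).map (P : Subgroup G).subtype with hQ
    have hQi : Q.relIndex (P : Subgroup G) = 2 := by
      rw [relIndex, hQ, subgroupOf, comap_map_eq_self_of_injective (P : Subgroup G).subtype_injective]
      exact hxi
    have hconj : ∃ g : G, g * w * g⁻¹ ∈ Q := by
      by_contra hcon
      push Not at hcon
      obtain ⟨M, -, hM, -⟩ := CfsgLib.Transfer.thompson_transfer P Q hQi w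
        (hwo ▸ pow_orderOf_eq_one w) fun g _ => hcon g
      exact no_index_two hG hM
    obtain ⟨g, ⟨y, hy, hyg⟩⟩ := hconj
    have hyo : orderOf y = 2 := by
      rw [← orderOf_coe]
      change orderOf ((P : Subgroup G).subtype y) = 2
      rw [hyg, orderOf_conj31, hwo]
    have hyz := central_of_index_two hxi hy hyo
    have hle : (P : Subgroup G) ≤ centralizer ({g * w * g⁻¹} : Set G) := by
      intro a ha
      rw [mem_centralizer_singleton_iff, ← hyg]
      exact congrArg Subtype.val (mem_center_iff.mp hyz ⟨a, ha⟩)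
    have hcard : Nat.card (centralizer ({g * w * g⁻¹} : Set G)) = 4 := by
      have := nat_card_centralizer_nat_card_stabilizer
        (G := G)
      rw [← h]
      refine Nat.card_congr
        { toFun := fun a => ⟨g⁻¹ * a * g, ?_⟩
          invFun := fun a => ⟨g * a * g⁻¹, ?_⟩
          left_inv := fun a => Subtype.ext (by group)
          right_inv := fun a => Subtype.ext (by group) }
      · rw [hCdef, mem_centralizer_singleton_iff]
        have h1 := mem_centralizer_singleton_iff.mp a.2
        calc g⁻¹ * a * g * w = g⁻¹ * ((a : G) * (g * w * g⁻¹)) * g := by group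
          _ = g⁻¹ * ((g * w * g⁻¹) * a) * g := by rw [h1]
          _ = w * (g⁻¹ * a * g) := by group
      · rw [mem_centralizer_singleton_iff]
        have h1 := mem_centralizer_singleton_iff.mp a.2
        calc g * a * g⁻¹ * (g * w * g⁻¹) = g * ((a : G) * w) * g⁻¹ := by group
          _ = g * (w * a) * g⁻¹ := by rw [h1]
          _ = g * w * g⁻¹ * (g * a * g⁻¹) := by group
    have := card_le_of_le hle
    omega

theorem case_four (hG : ¬ IsCyclic G) {w : G} (hwo : orderOf w = 4)
    (h : Nat.card (centralizer ({w} : Set G)) = 4) :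
    ∃ (P : Sylow 2 G) (σ : G), σ ∈ (P : Subgroup G) ∧ orderOf σ = 4 ∧
      Nonempty ((P : Subgroup G) ≃* DihedralGroup 4) ∧
      centralizer ({σ} : Set G) = zpowers σ := by
  haveI : Fact (Nat.Prime 2) := ⟨Nat.prime_two⟩
  have hw : w ≠ 1 := fun e => by simp [e] at hwo
  have hCz : centralizer ({w} : Set G) = zpowers w :=
    (eq_of_le_of_card_ge (zpowers_le_centralizer w) (by rw [h, Nat.card_zpowers, hwo])).symm
  have hzp : IsPGroup 2 (zpowers w) :=
    IsPGroup.of_card (n := 2) (by rw [Nat.card_zpowers, hwo]; rfl)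
  obtain ⟨P, hP⟩ := hzp.exists_le_sylow
  have hwP : w ∈ (P : Subgroup G) := hP (mem_zpowers w)
  obtain ⟨k, hk⟩ := IsPGroup.iff_card.mp P.isPGroup'
  have hk3 : 3 ≤ k := by
    by_contra hlt
    refine sylow_not_cyclic hG P hwP hw ?_
    have : zpowers w = (P : Subgroup G) := eq_of_le_of_card_ge hP (by
      rw [hk, Nat.card_zpowers, hwo]
      calc 2 ^ k ≤ 2 ^ 2 := Nat.pow_le_pow_right two_pos (by omega)
        _ = 4 := rfl)
    rw [← this]; infer_instance
  set w' : (P : Subgroup G) := ⟨w, hwP⟩ with hw'
  have hwo' : orderOf w' = 4 := by rw [← orderOf_coe]; exact hwo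
  have hcomm_le : ∀ {a : (P : Subgroup G)}, Commute a w' → a ∈ zpowers w' := by
    intro a ha
    have : (a : G) ∈ centralizer ({w} : Set G) :=
      mem_centralizer_singleton_iff.mpr (congrArg Subtype.val ha.eq)
    rw [hCz] at this
    obtain ⟨i, hi⟩ := this
    exact ⟨i, Subtype.ext (by simpa using hi)⟩
  have hself : centralizer ((zpowers w' : Subgroup (P : Subgroup G)) : Set (P : Subgroup G)) =
      zpowers w' := by
    refine le_antisymm (fun a ha => hcomm_le ?_) ?_
    · exact ((mem_centralizer_iff.mp ha) w' (mem_zpowers w')).symm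
    · intro a ha
      rw [mem_centralizer_iff]
      intro b hb
      obtain ⟨i, rfl⟩ := ha
      obtain ⟨j, rfl⟩ := hb
      exact ((Commute.refl w').zpow_zpow j i).eq
  have hclass := Cfsg.Agent.S0112.result (p := 2) k hk (zpowers w')
    (by rw [Nat.card_zpowers, hwo']; rfl) hself
  rcases CfsgLib.TwoGroups85.isDSQ_of_maximalClass hk3 hk hclass with
    ⟨j, ⟨e⟩⟩ | ⟨j, hcard, a, b, ha, hb, hab⟩ | ⟨j, ⟨e⟩⟩
  · -- dihedral
    obtain ⟨g, hg⟩ : ∃ g, g = e w' := ⟨_, rfl⟩
    have hgo : orderOf g = 4 := by rw [hg, MulEquiv.orderOf_eq, hwo']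
    rcases g with i | i
    · have hle : (zpowers (DihedralGroup.r (1 : ZMod (2 ^ (j + 2))))).map e.symm.toMonoidHom ≤
          zpowers w' := by
        rw [MonoidHom.map_zpowers, zpowers_le]
        refine hcomm_le ?_
        have : Commute (DihedralGroup.r (1 : ZMod (2 ^ (j + 2)))) (DihedralGroup.r i) := by
          simp [Commute, SemiconjBy, add_comm]
        have h2 := this.map e.symm.toMonoidHom
        simpa [hg] using h2
      have hc := card_le_of_le hle
      rw [card_map_of_injective e.symm.injective, Nat.card_zpowers, Nat.card_zpowers,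
        DihedralGroup.orderOf_r_one, hwo'] at hc
      have hj : j = 0 := by
        by_contra hj
        have : 2 ^ 3 ≤ 2 ^ (j + 2) := Nat.pow_le_pow_right two_pos (by omega)
        omega
      subst hj
      exact ⟨P, w, hwP, hwo, ⟨e⟩, hCz⟩
    · rw [DihedralGroup.orderOf_sr] at hgo
      omega
  · -- semidihedral
    exfalso
    obtain ⟨r, x, y, hSD⟩ := exists_sd (S := (P : Subgroup G))
      ⟨j + 3, by omega, hcard, a, b, ha, hb, hab⟩
    set Q := (dih x y).map (P : Subgroup G).subtype with hQ
    have hQi : Q.relIndex (P : Subgroup G) = 2 := by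
      rw [relIndex, hQ, subgroupOf, comap_map_eq_self_of_injective (P : Subgroup G).subtype_injective]
      exact index_dih hSD
    have hyd : y ∈ dih x y := subset_closure (by simp)
    have hx2 : ∀ c : ℤ, Even c → x ^ c ∈ dih x y := by
      rintro c ⟨d, rfl⟩
      rw [show d + d = 2 * d by ring, zpow_mul]
      exact zpow_mem (subset_closure (by simp)) d
    have hinv : ∀ g ∈ (P : Subgroup G), g ^ 2 = 1 → g ∈ Q := by
      intro g hg hg2
      refine ⟨⟨g, hg⟩, ?_, rfl⟩
      by_cases h1 : g = 1
      · subst h1; exact one_mem _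
      have ho : orderOf (⟨g, hg⟩ : (P : Subgroup G)) = 2 := by
        rw [← orderOf_coe]; exact orderOf_eq_prime hg2 h1
      rcases involution_cases hSD ho with e | ⟨c, hc, e⟩ <;> rw [e]
      · exact hx2 _ ⟨2 * r, by ring⟩
      · exact mul_mem (hx2 _ hc) hyd
    have hconj : ∃ g : G, g * w * g⁻¹ ∈ Q := by
      by_contra hcon
      push Not at hcon
      obtain ⟨M, -, hM⟩ := transfer_order_four P Q hQi hinv w (hwo ▸ pow_orderOf_eq_one w)
        fun g _ => hcon g
      exact no_index_two hG hM
    obtain ⟨g, u, hu, hug⟩ := hconj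
    have huo : orderOf u = 4 := by
      rw [← orderOf_coe]
      change orderOf ((P : Subgroup G).subtype u) = 4
      rw [hug, orderOf_conj31, hwo]
    have hux : Commute x u := by
      obtain ⟨c, rfl | rfl⟩ := hSD.gen u
      · exact (Commute.refl x).zpow_right c
      · exfalso
        rcases Int.even_or_odd c with hc | hc
        · rw [orderOf_xy_even hSD hc] at huo; omega
        · have : x ^ c ∈ dih x y := by
            have := mul_mem hu hyd
            rwa [mul_assoc, yy hSD, mul_one] at this
          exact x_not_mem_dih hSD ((zpow_mem_of_index_two (index_dih hSD) x c hc).mp this)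
    have hmem : g⁻¹ * (x : G) * g ∈ centralizer ({w} : Set G) := by
      rw [mem_centralizer_singleton_iff]
      have h1 : (x : G) * (g * w * g⁻¹) = (g * w * g⁻¹) * x := by
        rw [← hug]; exact congrArg Subtype.val hux.eq
      calc g⁻¹ * (x : G) * g * w = g⁻¹ * ((x : G) * (g * w * g⁻¹)) * g := by group
        _ = g⁻¹ * ((g * w * g⁻¹) * x) * g := by rw [h1]
        _ = w * (g⁻¹ * x * g) := by group
    have hd := (centralizer ({w} : Set G)).orderOf_dvd_natCard hmem
    rw [h] at hd
    have he : orderOf (g⁻¹ * (x : G) * g) = 8 * r := by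
      have := orderOf_conj31 g⁻¹ (x : G)
      rw [inv_inv] at this
      rw [this, orderOf_coe, hSD.ordx]
    have := Nat.le_of_dvd (by norm_num) hd
    have := r_pos hSD
    omega
  · -- quaternion
    exfalso
    have hO : ∀ N : Subgroup G, N.Normal → Odd (Nat.card N) → N = ⊥ := by
      intro N hN hodd
      rcases normal_cases hN with e' | e'
      · exact e'
      · exfalso
        subst e'
        rw [card_top] at hodd
        have h2 : 2 ∣ Nat.card G :=
          (dvd_of_eq (by rw [hwo] : 4 = orderOf w)).trans (orderOf_dvd_natCard w) |> dvd_trans ⟨2, rfl⟩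
        exact Nat.not_even_iff_odd.mpr hodd (even_iff_two_dvd.mpr h2)
    have hc := Cfsg.Agent.S0201.result P j e hO
    rcases normal_cases (N := center G) inferInstance with e' | e'
    · rw [e', card_bot] at hc; omega
    · exact not_comm hG ⟨⟨fun a b => (mem_center_iff.mp (e' ▸ mem_top b) a)⟩⟩

theorem reduce (hG : ¬ IsCyclic G) (w : G) (hw4 : Nat.card (centralizer ({w} : Set G)) ≤ 4) :
    ReduceConcl G := by
  have hw : w ≠ 1 := by
    rintro rfl
    have : centralizer ({(1 : G)} : Set G) = ⊤ := by
      rw [eq_top_iff']; intro a; simp [mem_centralizer_singleton_iff]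
    rw [this, card_top] at hw4
    apply hG
    have : 1 ≤ Nat.card G := Nat.card_pos
    interval_cases hh : Nat.card G
    · haveI := (Nat.card_eq_one_iff_unique.mp hh).1
      infer_instance
    · exact isCyclic_of_prime_card (p := 2) (hp := ⟨Nat.prime_two⟩) hh
    · exact isCyclic_of_prime_card (p := 3) (hp := ⟨Nat.prime_three⟩) hh
    · exfalso
      haveI : Fact (Nat.Prime 2) := ⟨Nat.prime_two⟩
      exact not_comm hG ⟨⟨IsPGroup.commutative_of_card_eq_prime_sq (p := 2) (by simpa using hh)⟩⟩
  have h2 : 2 ≤ Nat.card (centralizer ({w} : Set G)) := by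
    have h1 : Nat.card (zpowers w) ≤ Nat.card (centralizer ({w} : Set G)) :=
      card_le_of_le (zpowers_le_centralizer w)
    rw [Nat.card_zpowers] at h1
    have : orderOf w ≠ 1 := fun e => hw (orderOf_eq_one_iff.mp e)
    have := orderOf_pos w
    omega
  rcases (show Nat.card (centralizer ({w} : Set G)) = 2 ∨ Nat.card (centralizer ({w} : Set G)) = 3 ∨
      Nat.card (centralizer ({w} : Set G)) = 4 by omega) with e | e | e
  · exact (case_two hG hw e).elim
  · rcases case_three hG hw e with h' | h'
    · exact Or.inl h'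
    · exact Or.inr (Or.inl h')
  · rcases orderOf_eq_two_or_four hw e with ho | ho
    · exact Or.inl (case_involution hG ho e)
    · exact Or.inr (Or.inr (case_four hG ho e))

end CfsgLib.SmallCent31
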