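import Cfsg.Agent.Lib.SmallCent31.Reduce
import Cfsg.Agent.S0514
import Mathlib.GroupTheory.FixedPointFree

/-!
# A dihedral Sylow 2-subgroup of order eight with self-centralizing rotations: local structure

The centralizer of the central involution `z` is `O ⋊ P`, a rotation inverts the abelian group
`O` of odd order, and `O = A × B` for the fixed subgroups `A`, `B` of the two reflections.
-/

set_option autoImplicit false
set_option linter.style.haveILetI false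
set_option linter.unusedSectionVars false

namespace CfsgLib.SmallCent31

open Subgroup

universe u

/-- The data: a dihedral Sylow `2`-subgroup of order eight, rotations self-centralizing, one class
of involutions. -/
structure D8 (G : Type u) [Group G] where
  P : Sylow 2 G
  σ : G
  τ : G
  hσP : σ ∈ (P : Subgroup G)
  hτP : τ ∈ (P : Subgroup G)
  hσo : orderOf σ = 4
  hτo : orderOf τ = 2
  hrel : τ * σ * τ⁻¹ = σ⁻¹
  hgen : closure ({σ, τ} : Set G) = (P : Subgroup G)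
  hiso : Nonempty ((P : Subgroup G) ≃* DihedralGroup 4)
  hC : centralizer ({σ} : Set G) = zpowers σ
  hone : ∀ s t : G, orderOf s = 2 → orderOf t = 2 → IsConj s t

variable {G : Type u} [Group G]

namespace D8

variable (d : D8 G)

/-- The central involution. -/
def z : G := d.σ ^ 2

/-- The odd part of the centralizer of `z`. -/
def O : Subgroup G := closure {g | g ∈ centralizer ({d.z} : Set G) ∧ Odd (orderOf g)}

/-- The fixed points of `τ` in `O`. -/
def A : Subgroup G := d.O ⊓ centralizer ({d.τ} : Set G)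

/-- The fixed points of `στ` in `O`. -/
def B : Subgroup G := d.O ⊓ centralizer ({d.σ * d.τ} : Set G)

theorem τsq : d.τ * d.τ = 1 := by rw [← pow_two, ← d.hτo, pow_orderOf_eq_one]

theorem τinv : d.τ⁻¹ = d.τ := inv_eq_of_mul_eq_one_right d.τsq

theorem σ4 : d.σ ^ 4 = 1 := by rw [← d.hσo, pow_orderOf_eq_one]

theorem σinv : d.σ⁻¹ = d.σ ^ 3 := inv_eq_of_mul_eq_one_right (by rw [← pow_succ', d.σ4])

theorem τσ : d.τ * d.σ = d.σ ^ 3 * d.τ := by
  rw [← d.σinv, ← d.hrel]; group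

theorem τσpow (k : ℕ) : d.τ * d.σ ^ k = d.σ ^ (3 * k) * d.τ := by
  induction k with
  | zero => simp
  | succ k ih => rw [pow_succ, ← mul_assoc, ih, mul_assoc, d.τσ, ← mul_assoc, ← pow_add, mul_add,
      mul_one]

theorem zo : orderOf d.z = 2 := by
  rw [z, orderOf_pow' _ two_ne_zero, d.hσo]; rfl

theorem zsq : d.z * d.z = 1 := by rw [z, ← pow_add, d.σ4]

theorem z_ne : d.z ≠ 1 := fun e => by simpa [e] using d.zo

theorem τ_not_zpowers : d.τ ∉ zpowers d.σ := by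
  rintro ⟨i, hi⟩
  have h1 : d.τ * d.σ * d.τ⁻¹ = d.σ := by
    rw [← hi]; exact mul_inv_eq_iff_eq_mul.mpr (((Commute.refl d.σ).zpow_left i).eq)
  rw [d.hrel] at h1
  have h2 : d.σ ^ 2 = 1 := by rw [pow_two]; nth_rewrite 1 [← h1]; simp
  have := orderOf_dvd_of_pow_eq_one h2
  rw [d.hσo] at this
  norm_num at this

theorem στo : orderOf (d.σ * d.τ) = 2 := by
  refine orderOf_eq_prime ?_ fun e => d.τ_not_zpowers ?_
  · rw [pow_two, mul_assoc, ← mul_assoc d.τ, d.τσ, mul_assoc, d.τsq, mul_one, ← pow_succ', d.σ4]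
  · rw [eq_inv_of_mul_eq_one_right e]
    exact inv_mem (mem_zpowers _)

theorem στrel : (d.σ * d.τ) * d.σ * (d.σ * d.τ)⁻¹ = d.σ⁻¹ := by
  calc (d.σ * d.τ) * d.σ * (d.σ * d.τ)⁻¹ = d.σ * (d.τ * d.σ * d.τ⁻¹) * d.σ⁻¹ := by group
    _ = _ := by rw [d.hrel]; group

theorem στP : d.σ * d.τ ∈ (d.P : Subgroup G) := mul_mem d.hσP d.hτP

/-- Exchange the two classes of reflections. -/
def swap : D8 G where
  P := d.P
  σ := d.σ
  τ := d.σ * d.τ
  hσP := d.hσP
  hτP := d.στP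
  hσo := d.hσo
  hτo := d.στo
  hrel := d.στrel
  hgen := by
    rw [← d.hgen]
    refine le_antisymm ((closure_le _).mpr ?_) ((closure_le _).mpr ?_)
    · rintro g (rfl | rfl)
      · exact subset_closure (by simp)
      · exact mul_mem (subset_closure (by simp)) (subset_closure (by simp))
    · rintro g (rfl | rfl)
      · exact subset_closure (by simp)
      · have h1 : d.σ ∈ closure ({d.σ, d.σ * d.τ} : Set G) := subset_closure (by simp)
        have h2 : d.σ * d.τ ∈ closure ({d.σ, d.σ * d.τ} : Set G) := subset_closure (by simp)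
        exact (mul_mem_cancel_left h1).mp h2
  hiso := d.hiso
  hC := d.hC
  hone := d.hone

theorem swap_z : d.swap.z = d.z := rfl
theorem swap_O : d.swap.O = d.O := rfl
theorem swap_A : d.swap.A = d.B := rfl

variable [Finite G]

theorem P_card : Nat.card (d.P : Subgroup G) = 8 := by
  obtain ⟨e⟩ := d.hiso
  rw [Nat.card_congr e.toEquiv, DihedralGroup.nat_card]

theorem P_cases {p : G} (hp : p ∈ (d.P : Subgroup G)) :
    ∃ k < 4, p = d.σ ^ k ∨ p = d.σ ^ k * d.τ := by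
  have hmod : ∀ n : ℕ, d.σ ^ n = d.σ ^ (n % 4) := fun n => by
    conv_lhs => rw [← Nat.mod_add_div n 4, pow_add, pow_mul, d.σ4, one_pow, mul_one]
  rw [← d.hgen] at hp
  suffices h : ∃ k : ℕ, p = d.σ ^ k ∨ p = d.σ ^ k * d.τ by
    obtain ⟨k, hk⟩ := h
    exact ⟨k % 4, Nat.mod_lt _ (by norm_num), by rw [← hmod]; exact hk⟩
  induction hp using closure_induction with
  | mem x hx =>
    rcases hx with rfl | rfl
    · exact ⟨1, Or.inl (pow_one _).symm⟩
    · exact ⟨0, Or.inr (by simp)⟩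
  | one => exact ⟨0, Or.inl (pow_zero _).symm⟩
  | mul x y _ _ hx hy =>
    obtain ⟨i, rfl | rfl⟩ := hx <;> obtain ⟨j, rfl | rfl⟩ := hy
    · exact ⟨i + j, Or.inl (pow_add _ _ _).symm⟩
    · exact ⟨i + j, Or.inr (by rw [pow_add, mul_assoc])⟩
    · exact ⟨i + 3 * j, Or.inr (by rw [pow_add, mul_assoc, d.τσpow, mul_assoc])⟩
    · exact ⟨i + 3 * j, Or.inl (by
        rw [pow_add, mul_assoc, ← mul_assoc d.τ, d.τσpow, mul_assoc, d.τsq, mul_one])⟩
  | inv x _ hx =>
    obtain ⟨i, rfl | rfl⟩ := hx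
    · exact ⟨3 * i, Or.inl (inv_eq_of_mul_eq_one_right (by
        rw [← pow_add, show i + 3 * i = 4 * i by ring, pow_mul, d.σ4, one_pow]))⟩
    · refine ⟨i, Or.inr (inv_eq_of_mul_eq_one_right ?_)⟩
      rw [mul_assoc, ← mul_assoc d.τ, d.τσpow, mul_assoc, d.τsq, mul_one, ← pow_add,
        show i + 3 * i = 4 * i by ring, pow_mul, d.σ4, one_pow]

theorem z_comm_τ : d.z * d.τ = d.τ * d.z := by
  rw [z, d.τσpow, show 3 * 2 = 4 + 2 from rfl, pow_add, d.σ4, one_mul]

theorem z_comm_σ : d.z * d.σ = d.σ * d.z := ((Commute.refl d.σ).pow_left 2).eq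

theorem P_le_Cz : (d.P : Subgroup G) ≤ centralizer ({d.z} : Set G) := by
  rw [← d.hgen, closure_le]
  rintro g (rfl | rfl) <;> rw [SetLike.mem_coe, mem_centralizer_singleton_iff]
  · exact d.z_comm_σ.symm
  · exact d.z_comm_τ.symm

theorem core_spec : ∃ N : Subgroup G, N ≤ centralizer ({d.z} : Set G) ∧ Odd (Nat.card N) ∧
    Nat.card (centralizer ({d.z} : Set G)) = 8 * Nat.card N ∧
    (∀ c ∈ centralizer ({d.z} : Set G), ∀ o ∈ N, c * o * c⁻¹ ∈ N) ∧
    ∀ g ∈ centralizer ({d.z} : Set G), Odd (orderOf g) → g ∈ N := by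
  set C := centralizer ({d.z} : Set G) with hC
  obtain ⟨N, hN, hodd, k, hk⟩ := Cfsg.Agent.S0514.result d.P 4 (by norm_num) d.hiso d.z d.zo
  refine ⟨N.map C.subtype, map_subtype_le N, ?_, ?_, ?_, ?_⟩
  · rw [card_map_of_injective C.subtype_injective]; exact hodd
  · rw [card_map_of_injective C.subtype_injective]
    have h1 := N.card_mul_index
    rw [hk] at h1
    have h2 : 8 ∣ Nat.card C := d.P_card ▸ card_dvd_of_le d.P_le_Cz
    have h3 : ¬ 16 ∣ Nat.card C := by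
      intro h
      have h4 : 2 ^ 4 ∣ Nat.card G := h.trans (card_subgroup_dvd_card C)
      have h5 := d.P.pow_dvd_card_of_pow_dvd_card (n := 4) h4
      rw [d.P_card] at h5
      norm_num at h5
    have hk3 : k = 3 := by
      rw [← h1] at h2 h3
      have hco : Nat.Coprime (Nat.card N) (2 ^ 4) :=
        Nat.Coprime.pow_right 4 (Nat.coprime_two_right.mpr hodd)
      have e1 : 2 ^ 3 ∣ 2 ^ k := Nat.Coprime.dvd_of_dvd_mul_left
        (Nat.Coprime.pow_left 3 (Nat.coprime_two_left.mpr hodd)) h2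
      have e2 : 3 ≤ k := (Nat.pow_dvd_pow_iff_le_right (by norm_num)).mp e1
      by_contra hne
      exact h3 (dvd_mul_of_dvd_right (pow_dvd_pow 2 (show 4 ≤ k by omega)) _)
    subst hk3
    exact h1.symm.trans ((mul_comm _ _).trans rfl)
  · rintro c hc o ⟨o', ho', rfl⟩
    exact ⟨⟨c, hc⟩ * o' * (⟨c, hc⟩ : C)⁻¹, hN.conj_mem o' ho' _, rfl⟩
  · intro g hg ho
    refine ⟨⟨g, hg⟩, ?_, rfl⟩
    have h1 : orderOf ((⟨g, hg⟩ : C) : C ⧸ N) ∣ 2 ^ k := by
      rw [← hk, index_eq_card]; exact orderOf_dvd_natCard _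
    have h2 : orderOf ((⟨g, hg⟩ : C) : C ⧸ N) ∣ orderOf g := by
      have := orderOf_map_dvd (QuotientGroup.mk' N) (⟨g, hg⟩ : C)
      rwa [Subgroup.orderOf_mk] at this
    show (⟨g, hg⟩ : C) ∈ N
    rw [← QuotientGroup.eq_one_iff, ← orderOf_eq_one_iff]
    exact Nat.eq_one_of_dvd_coprimes (Nat.Coprime.pow_right k (Nat.coprime_two_right.mpr ho)) h2 h1

theorem O_spec : d.O ≤ centralizer ({d.z} : Set G) ∧ Odd (Nat.card d.O) ∧
    Nat.card (centralizer ({d.z} : Set G)) = 8 * Nat.card d.O ∧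
    (∀ c ∈ centralizer ({d.z} : Set G), ∀ o ∈ d.O, c * o * c⁻¹ ∈ d.O) ∧
    ∀ g ∈ centralizer ({d.z} : Set G), Odd (orderOf g) → g ∈ d.O := by
  obtain ⟨N, h1, h2, h3, h4, h5⟩ := d.core_spec
  suffices e : d.O = N by rw [e]; exact ⟨h1, h2, h3, h4, h5⟩
  refine le_antisymm ((closure_le _).mpr fun g hg => h5 g hg.1 hg.2) fun g hg => ?_
  exact subset_closure ⟨h1 hg, Odd.of_dvd_nat h2 (N.orderOf_dvd_natCard hg)⟩

theorem O_le : d.O ≤ centralizer ({d.z} : Set G) := d.O_spec.1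
theorem O_odd : Odd (Nat.card d.O) := d.O_spec.2.1
theorem Cz_card : Nat.card (centralizer ({d.z} : Set G)) = 8 * Nat.card d.O := d.O_spec.2.2.1

theorem O_conj {c o : G} (hc : c ∈ centralizer ({d.z} : Set G)) (ho : o ∈ d.O) :
    c * o * c⁻¹ ∈ d.O := d.O_spec.2.2.2.1 c hc o ho

theorem mem_O {g : G} (hg : g ∈ centralizer ({d.z} : Set G)) (ho : Odd (orderOf g)) : g ∈ d.O :=
  d.O_spec.2.2.2.2 g hg ho

theorem odd_orderOf_mem {o : G} (ho : o ∈ d.O) : Odd (orderOf o) :=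
  Odd.of_dvd_nat d.O_odd (d.O.orderOf_dvd_natCard ho)

theorem eq_one_of_mem_O_P {g : G} (ho : g ∈ d.O) (hp : g ∈ (d.P : Subgroup G)) : g = 1 := by
  rw [← orderOf_eq_one_iff]
  refine Nat.eq_one_of_dvd_coprimes (Nat.Coprime.pow_right 3 (Nat.coprime_two_right.mpr d.O_odd))
    (d.O.orderOf_dvd_natCard ho) ?_
  have := (d.P : Subgroup G).orderOf_dvd_natCard hp
  rwa [d.P_card] at this

theorem unique_OP {o o' p p' : G} (ho : o ∈ d.O) (ho' : o' ∈ d.O) (hp : p ∈ (d.P : Subgroup G))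
    (hp' : p' ∈ (d.P : Subgroup G)) (h : o * p = o' * p') : o = o' ∧ p = p' := by
  have e : o'⁻¹ * o = p' * p⁻¹ := by
    rw [eq_mul_inv_iff_mul_eq, mul_assoc, h, inv_mul_cancel_left]
  have h1 := d.eq_one_of_mem_O_P (mul_mem (inv_mem ho') ho) (e ▸ mul_mem hp' (inv_mem hp))
  have h2 : o = o' := (inv_mul_eq_one.mp h1).symm
  subst h2
  exact ⟨rfl, mul_left_cancel h⟩

theorem decomp {c : G} (hc : c ∈ centralizer ({d.z} : Set G)) :
    ∃ o ∈ d.O, ∃ p ∈ (d.P : Subgroup G), c = o * p := by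
  classical
  let f : d.O × (d.P : Subgroup G) → centralizer ({d.z} : Set G) :=
    fun x => ⟨x.1 * x.2, mul_mem (d.O_le x.1.2) (d.P_le_Cz x.2.2)⟩
  have hf : Function.Injective f := by
    rintro ⟨o, p⟩ ⟨o', p'⟩ h
    obtain ⟨h1, h2⟩ := d.unique_OP o.2 o'.2 p.2 p'.2
      (congrArg (fun x : centralizer ({d.z} : Set G) => (x : G)) h)
    exact Prod.ext (Subtype.ext h1) (Subtype.ext h2)
  have hb := (Nat.bijective_iff_injective_and_card f).mpr ⟨hf, by
    rw [Nat.card_prod, d.Cz_card, d.P_card, mul_comm]⟩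
  obtain ⟨⟨o, p⟩, h⟩ := hb.2 ⟨c, hc⟩
  exact ⟨o, o.2, p, p.2, (congrArg Subtype.val h).symm⟩

theorem σ_inverts {o : G} (ho : o ∈ d.O) : d.σ * o * d.σ⁻¹ = o⁻¹ := by
  have hσ : d.σ ∈ centralizer ({d.z} : Set G) := d.P_le_Cz d.hσP
  let φ : d.O →* d.O :=
    { toFun := fun x => ⟨d.σ * x * d.σ⁻¹, d.O_conj hσ x.2⟩
      map_one' := Subtype.ext (by simp)
      map_mul' := fun x y => Subtype.ext (by push_cast; group) }
  have hfix : MonoidHom.FixedPointFree φ := by
    intro x hx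
    have h1 : d.σ * x * d.σ⁻¹ = x := congrArg Subtype.val hx
    have h2 : (x : G) ∈ zpowers d.σ := by
      rw [← d.hC, mem_centralizer_singleton_iff]
      exact (mul_inv_eq_iff_eq_mul.mp h1).symm
    exact Subtype.ext (d.eq_one_of_mem_O_P x.2 (zpowers_le.mpr d.hσP h2))
  have hinv : Function.Involutive φ := by
    intro x
    refine Subtype.ext ?_
    show d.σ * (d.σ * x * d.σ⁻¹) * d.σ⁻¹ = x
    have h1 := mem_centralizer_singleton_iff.mp (d.O_le x.2)
    calc d.σ * (d.σ * x * d.σ⁻¹) * d.σ⁻¹ = d.σ ^ 2 * x * (d.σ ^ 2)⁻¹ := by rw [pow_two]; group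
      _ = (x : G) := by rw [← z, ← h1]; group
  exact congrArg Subtype.val (congrFun (hfix.coe_eq_inv_of_involutive hinv) ⟨o, ho⟩)

theorem O_comm {x y : G} (hx : x ∈ d.O) (hy : y ∈ d.O) : x * y = y * x := by
  have h := d.σ_inverts (mul_mem hx hy)
  have h' : d.σ * (x * y) * d.σ⁻¹ = (d.σ * x * d.σ⁻¹) * (d.σ * y * d.σ⁻¹) := by group
  rw [h', d.σ_inverts hx, d.σ_inverts hy, mul_inv_rev] at h
  have := congrArg (·⁻¹) h
  simpa [mul_inv_rev] using this.symm

theorem mem_A {g : G} : g ∈ d.A ↔ g ∈ d.O ∧ g * d.τ = d.τ * g := by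
  rw [A, mem_inf, mem_centralizer_singleton_iff]

theorem mem_B {g : G} : g ∈ d.B ↔ g ∈ d.O ∧ g * (d.σ * d.τ) = d.σ * d.τ * g := by
  rw [B, mem_inf, mem_centralizer_singleton_iff]

theorem A_le_O : d.A ≤ d.O := inf_le_left
theorem B_le_O : d.B ≤ d.O := inf_le_left

theorem A_odd : Odd (Nat.card d.A) := Odd.of_dvd_nat d.O_odd (card_dvd_of_le d.A_le_O)
theorem B_odd : Odd (Nat.card d.B) := Odd.of_dvd_nat d.O_odd (card_dvd_of_le d.B_le_O)

/-- `στ` acts on `O` as `τ` followed by inversion. -/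
theorem στ_act {o : G} (ho : o ∈ d.O) :
    (d.σ * d.τ) * o * (d.σ * d.τ)⁻¹ = (d.τ * o * d.τ⁻¹)⁻¹ := by
  rw [← d.σ_inverts (d.O_conj (d.P_le_Cz d.hτP) ho)]; group

theorem στ_inverts_A {o : G} (ho : o ∈ d.A) : (d.σ * d.τ) * o * (d.σ * d.τ)⁻¹ = o⁻¹ := by
  obtain ⟨h1, h2⟩ := d.mem_A.mp ho
  rw [d.στ_act h1, ← h2, mul_inv_cancel_right]

theorem τ_inverts_B {o : G} (ho : o ∈ d.B) : d.τ * o * d.τ⁻¹ = o⁻¹ := by
  obtain ⟨h1, h2⟩ := d.mem_B.mp ho
  have := d.στ_act h1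
  rw [← h2, mul_inv_cancel_right] at this
  exact inv_eq_iff_eq_inv.mp this.symm

theorem eq_one_of_sq {o : G} (ho : o ∈ d.O) (h : o = o⁻¹) : o = 1 := by
  by_contra h1
  have h2 : o ^ 2 = 1 := by rw [pow_two]; nth_rewrite 1 [h]; simp
  have := d.odd_orderOf_mem ho
  rw [orderOf_eq_prime h2 h1] at this
  exact absurd this (by decide)

theorem card_O : Nat.card d.O = Nat.card d.A * Nat.card d.B := by
  classical
  rw [← Nat.card_prod]
  symm
  refine Nat.card_congr (Equiv.ofBijective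
    (fun x : d.A × d.B => (⟨x.1 * x.2, mul_mem (d.A_le_O x.1.2) (d.B_le_O x.2.2)⟩ : d.O)) ⟨?_, ?_⟩)
  · rintro ⟨x, y⟩ ⟨x', y'⟩ h
    have h0 : (x : G) * y = x' * y' := congrArg Subtype.val h
    have e : (x' : G)⁻¹ * x = y' * (y : G)⁻¹ := by
      rw [eq_mul_inv_iff_mul_eq, mul_assoc, h0, inv_mul_cancel_left]
    have hm : (x' : G)⁻¹ * x ∈ d.A := mul_mem (inv_mem x'.2) x.2
    have hm' : (x' : G)⁻¹ * x ∈ d.B := e ▸ mul_mem y'.2 (inv_mem y.2)
    have h1 : (x' : G)⁻¹ * x = 1 := by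
      refine d.eq_one_of_sq (d.A_le_O hm) ?_
      have e1 := d.τ_inverts_B hm'
      rw [← (d.mem_A.mp hm).2, mul_inv_cancel_right] at e1
      exact e1
    have h2 : (x : G) = x' := (inv_mul_eq_one.mp h1).symm
    rw [h2] at h0
    exact Prod.ext (Subtype.ext h2) (Subtype.ext (mul_left_cancel h0))
  · rintro ⟨o, ho⟩
    obtain ⟨n, hn⟩ := d.O_odd
    -- the square root of `o`
    have hr : o = (o ^ (n + 1)) ^ 2 := by
      rw [← pow_mul, show (n + 1) * 2 = Nat.card d.O + 1 by omega, pow_succ]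
      have := pow_card_eq_one' (G := d.O) (x := ⟨o, ho⟩)
      rw [show o ^ Nat.card d.O = 1 from congrArg Subtype.val this, one_mul]
    set r := o ^ (n + 1) with hr'
    have hrO : r ∈ d.O := pow_mem ho _
    set r' := d.τ * r * d.τ⁻¹ with hr''
    have hr'O : r' ∈ d.O := d.O_conj (d.P_le_Cz d.hτP) hrO
    have hττ : d.τ * r' * d.τ⁻¹ = r := by
      rw [hr'', d.τinv, ← mul_assoc, ← mul_assoc, d.τsq, one_mul, mul_assoc, d.τsq, mul_one]
    refine ⟨⟨⟨r * r', d.mem_A.mpr ⟨mul_mem hrO hr'O, ?_⟩⟩, ⟨r * r'⁻¹,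
      d.mem_B.mpr ⟨mul_mem hrO (inv_mem hr'O), ?_⟩⟩⟩, Subtype.ext ?_⟩
    · have : d.τ * (r * r') * d.τ⁻¹ = r * r' := by
        calc d.τ * (r * r') * d.τ⁻¹ = (d.τ * r * d.τ⁻¹) * (d.τ * r' * d.τ⁻¹) := by group
          _ = r' * r := by rw [hττ]
          _ = r * r' := d.O_comm hr'O hrO
      exact (mul_inv_eq_iff_eq_mul.mp this).symm
    · have : (d.σ * d.τ) * (r * r'⁻¹) * (d.σ * d.τ)⁻¹ = r * r'⁻¹ := by
        rw [d.στ_act (mul_mem hrO (inv_mem hr'O))]
        calc (d.τ * (r * r'⁻¹) * d.τ⁻¹)⁻¹ = (d.τ * r' * d.τ⁻¹) * (d.τ * r * d.τ⁻¹)⁻¹ := by group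
          _ = r * r'⁻¹ := by rw [hττ]
      exact (mul_inv_eq_iff_eq_mul.mp this).symm
    · show r * r' * (r * r'⁻¹) = o
      calc r * r' * (r * r'⁻¹) = r * (r' * r) * r'⁻¹ := by group
        _ = r * (r * r') * r'⁻¹ := by rw [d.O_comm hr'O hrO]
        _ = o := by rw [hr, pow_two]; group

theorem τ_comm_cases {p : G} (hp : p ∈ (d.P : Subgroup G)) (h : p * d.τ = d.τ * p) :
    p = 1 ∨ p = d.z ∨ p = d.τ ∨ p = d.z * d.τ := by
  obtain ⟨k, hk, rfl | rfl⟩ := d.P_cases hp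
  · interval_cases k
    · exact Or.inl (pow_zero _)
    · exfalso
      rw [pow_one, d.τσ, mul_left_inj] at h
      have := orderOf_dvd_of_pow_eq_one (x := d.σ) (n := 2) (by
        apply mul_left_cancel (a := d.σ)
        rw [mul_one, ← pow_succ', ← h])
      rw [d.hσo] at this
      norm_num at this
    · exact Or.inr (Or.inl rfl)
    · exfalso
      rw [d.τσpow, mul_left_inj, show 3 * 3 = 4 * 2 + 1 from rfl, pow_succ d.σ (4 * 2), pow_mul, d.σ4,
        one_pow, one_mul] at h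
      have := orderOf_dvd_of_pow_eq_one (x := d.σ) (n := 2) (by
        apply mul_left_cancel (a := d.σ)
        rw [mul_one, ← pow_succ', h])
      rw [d.hσo] at this
      norm_num at this
  · interval_cases k
    · exact Or.inr (Or.inr (Or.inl (by simp)))
    · exfalso
      rw [pow_one, mul_assoc, d.τsq, mul_one, ← mul_assoc, d.τσ, mul_assoc, d.τsq, mul_one] at h
      have := orderOf_dvd_of_pow_eq_one (x := d.σ) (n := 2) (by
        apply mul_left_cancel (a := d.σ)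
        rw [mul_one, ← pow_succ', ← h])
      rw [d.hσo] at this
      norm_num at this
    · exact Or.inr (Or.inr (Or.inr rfl))
    · exfalso
      rw [mul_assoc, d.τsq, mul_one, ← mul_assoc, d.τσpow, mul_assoc, d.τsq, mul_one,
        show 3 * 3 = 4 * 2 + 1 from rfl, pow_succ (d.σ) (4 * 2), pow_mul, d.σ4, one_pow,
        one_mul] at h
      have := orderOf_dvd_of_pow_eq_one (x := d.σ) (n := 2) (by
        apply mul_left_cancel (a := d.σ)
        rw [mul_one, ← pow_succ', h])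
      rw [d.hσo] at this
      norm_num at this

/-- The four-group `{1, z, τ, zτ}`. -/
def V : Subgroup G := (d.P : Subgroup G) ⊓ centralizer ({d.τ} : Set G)

theorem mem_V {p : G} : p ∈ d.V ↔ p ∈ (d.P : Subgroup G) ∧ p * d.τ = d.τ * p := by
  rw [V, mem_inf, mem_centralizer_singleton_iff]

theorem z_mem_P : d.z ∈ (d.P : Subgroup G) := pow_mem d.hσP 2

theorem z_mem_V : d.z ∈ d.V := d.mem_V.mpr ⟨d.z_mem_P, d.z_comm_τ⟩

theorem τ_mem_V : d.τ ∈ d.V := d.mem_V.mpr ⟨d.hτP, rfl⟩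

theorem V_cases {p : G} (hp : p ∈ d.V) : p = 1 ∨ p = d.z ∨ p = d.τ ∨ p = d.z * d.τ :=
  d.τ_comm_cases (d.mem_V.mp hp).1 (d.mem_V.mp hp).2

theorem z_ne_τ : d.z ≠ d.τ := fun e => d.τ_not_zpowers (e ▸ pow_mem (mem_zpowers _) 2)

theorem card_V : Nat.card d.V = 4 := by
  classical
  have e : (d.V : Set G) = ↑({1, d.z, d.τ, d.z * d.τ} : Finset G) := by
    ext p
    simp only [Finset.coe_insert, Finset.coe_singleton, Set.mem_insert_iff, Set.mem_singleton_iff,
      SetLike.mem_coe]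
    refine ⟨d.V_cases, ?_⟩
    rintro (rfl | rfl | rfl | rfl)
    · exact one_mem _
    · exact d.z_mem_V
    · exact d.τ_mem_V
    · exact mul_mem d.z_mem_V d.τ_mem_V
  show Nat.card (d.V : Set G) = 4
  rw [e, Nat.card_coe_set_eq, Set.ncard_coe_finset]
  have h1 : (1 : G) ≠ d.z := d.z_ne.symm
  have h2 : (1 : G) ≠ d.τ := fun e => by simpa [← e] using d.hτo
  have h3 : (1 : G) ≠ d.z * d.τ := fun e => d.z_ne_τ (by
    rw [eq_inv_of_mul_eq_one_left e.symm, d.τinv])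
  have h4 := d.z_ne_τ
  have h5 : d.z ≠ d.z * d.τ := fun e => h2 (mul_left_cancel (a := d.z) (by rw [← e, mul_one]))
  have h6 : d.τ ≠ d.z * d.τ := fun e => h1 (mul_right_cancel (b := d.τ) (by rw [← e, one_mul]))
  simp [h1, h2, h3, h4, h5, h6]

/-- The joint centralizer of `z` and `τ` is `A × V`. -/
theorem mem_Czτ {g : G} : g ∈ centralizer ({d.z, d.τ} : Set G) ↔
    ∃ o ∈ d.A, ∃ p ∈ d.V, g = o * p := by
  constructor
  · intro hg
    rw [mem_centralizer_iff] at hg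
    have hz : g ∈ centralizer ({d.z} : Set G) :=
      mem_centralizer_singleton_iff.mpr (hg d.z (by simp)).symm
    have ht := hg d.τ (by simp)
    obtain ⟨o, ho, p, hp, rfl⟩ := d.decomp hz
    have h' : (d.τ * o * d.τ⁻¹) * (d.τ * p * d.τ⁻¹) = o * p := by
      calc (d.τ * o * d.τ⁻¹) * (d.τ * p * d.τ⁻¹) = d.τ * (o * p) * d.τ⁻¹ := by group
        _ = o * p := by rw [ht, mul_inv_cancel_right]
    obtain ⟨e1, e2⟩ := d.unique_OP (d.O_conj (d.P_le_Cz d.hτP) ho) ho
      (mul_mem (mul_mem d.hτP hp) (inv_mem d.hτP)) hp h'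
    exact ⟨o, d.mem_A.mpr ⟨ho, (mul_inv_eq_iff_eq_mul.mp e1).symm⟩, p,
      d.mem_V.mpr ⟨hp, (mul_inv_eq_iff_eq_mul.mp e2).symm⟩, rfl⟩
  · rintro ⟨o, ho, p, hp, rfl⟩
    obtain ⟨ho1, ho2⟩ := d.mem_A.mp ho
    obtain ⟨hp1, hp2⟩ := d.mem_V.mp hp
    rw [mem_centralizer_iff]
    rintro x (rfl | rfl)
    · exact (mem_centralizer_singleton_iff.mp (mul_mem (d.O_le ho1) (d.P_le_Cz hp1))).symm
    · rw [← mul_assoc, ← ho2, mul_assoc, ← hp2, mul_assoc]

theorem card_Czτ :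
    Nat.card (centralizer ({d.z, d.τ} : Set G)) = 4 * Nat.card d.A := by
  classical
  rw [← d.card_V, mul_comm, ← Nat.card_prod]
  symm
  refine Nat.card_congr (Equiv.ofBijective
    (fun x : d.A × d.V => (⟨x.1 * x.2, d.mem_Czτ.mpr ⟨x.1, x.1.2, x.2, x.2.2, rfl⟩⟩ :
      centralizer ({d.z, d.τ} : Set G))) ⟨?_, ?_⟩)
  · rintro ⟨x, y⟩ ⟨x', y'⟩ h
    obtain ⟨h1, h2⟩ := d.unique_OP (d.A_le_O x.2) (d.A_le_O x'.2) (d.mem_V.mp y.2).1
      (d.mem_V.mp y'.2).1 (congrArg Subtype.val h)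
    exact Prod.ext (Subtype.ext h1) (Subtype.ext h2)
  · rintro ⟨g, hg⟩
    obtain ⟨o, ho, p, hp, rfl⟩ := d.mem_Czτ.mp hg
    exact ⟨⟨⟨o, ho⟩, ⟨p, hp⟩⟩, rfl⟩

theorem card_Czστ :
    Nat.card (centralizer ({d.z, d.σ * d.τ} : Set G)) = 4 * Nat.card d.B :=
  d.swap.card_Czτ

theorem card_Cz : Nat.card (centralizer ({d.z} : Set G)) = 8 * (Nat.card d.A * Nat.card d.B) := by
  rw [d.Cz_card, d.card_O]

end D8

/-- A simple group in the dihedral case of the reduction carries the data. -/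
theorem exists_D8 [Finite G] [IsSimpleGroup G] (hG : ¬ IsCyclic G) (P : Sylow 2 G) {σ : G}
    (hσ : σ ∈ (P : Subgroup G)) (hσo : orderOf σ = 4)
    (hiso : Nonempty ((P : Subgroup G) ≃* DihedralGroup 4))
    (hC : centralizer ({σ} : Set G) = zpowers σ) : Nonempty (D8 G) := by
  haveI : Fact (Nat.Prime 2) := ⟨Nat.prime_two⟩
  obtain ⟨e⟩ := hiso
  have hcard : Nat.card (P : Subgroup G) = 8 := by
    rw [Nat.card_congr e.toEquiv, DihedralGroup.nat_card]
  obtain ⟨i, hi⟩ : ∃ i, e ⟨σ, hσ⟩ = DihedralGroup.r i := by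
    rcases hh : e ⟨σ, hσ⟩ with i | i
    · exact ⟨i, rfl⟩
    · exfalso
      have := congrArg orderOf hh
      rw [MulEquiv.orderOf_eq, DihedralGroup.orderOf_sr, ← orderOf_coe] at this
      change orderOf σ = 2 at this
      omega
  set t := e.symm (DihedralGroup.sr 0) with ht
  have hto : orderOf (t : G) = 2 := by
    rw [orderOf_coe, ht, MulEquiv.orderOf_eq, DihedralGroup.orderOf_sr]
  have hrel' : t * ⟨σ, hσ⟩ * t⁻¹ = (⟨σ, hσ⟩ : (P : Subgroup G))⁻¹ := by
    apply e.injective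
    rw [map_mul, map_mul, map_inv, map_inv, ht, MulEquiv.apply_symm_apply, hi]
    simp
  have hrel : (t : G) * σ * (t : G)⁻¹ = σ⁻¹ := by
    simpa using congrArg Subtype.val hrel'
  have hnot : (t : G) ∉ zpowers σ := by
    rintro ⟨j, hj⟩
    have : t ∈ zpowers (⟨σ, hσ⟩ : (P : Subgroup G)) := ⟨j, Subtype.ext (by simpa using hj)⟩
    obtain ⟨j', hj'⟩ := this
    have := congrArg e hj'
    rw [ht, MulEquiv.apply_symm_apply, map_zpow, hi] at this
    simp at this
  have hgen : closure ({σ, (t : G)} : Set G) = (P : Subgroup G) := by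
    have hle : closure ({σ, (t : G)} : Set G) ≤ (P : Subgroup G) := by
      rw [closure_le]; rintro g (rfl | rfl); exacts [hσ, t.2]
    refine eq_of_le_of_card_ge hle ?_
    have h1 : zpowers σ ≤ closure ({σ, (t : G)} : Set G) :=
      zpowers_le.mpr (subset_closure (by simp))
    have hd : Nat.card (zpowers σ) ∣ Nat.card (closure ({σ, (t : G)} : Set G)) :=
      card_dvd_of_le h1
    have hd' := card_dvd_of_le hle
    have hne : Nat.card (closure ({σ, (t : G)} : Set G)) ≠ 4 := by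
      intro h4
      apply hnot
      have : zpowers σ = closure ({σ, (t : G)} : Set G) :=
        eq_of_le_of_card_ge h1 (by rw [h4, Nat.card_zpowers, hσo])
      rw [this]; exact subset_closure (by simp)
    rw [Nat.card_zpowers, hσo] at hd
    rw [hcard] at hd' ⊢
    obtain ⟨c, hc⟩ := hd
    rw [hc] at hd' hne ⊢
    have := Nat.le_of_dvd (by norm_num) hd'
    have : c ≠ 0 := by rintro rfl; simp at hd'
    omega
  -- one class of involutions
  have hQi : (zpowers σ).relIndex (P : Subgroup G) = 2 := by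
    have h := card_mul_index ((zpowers σ).subgroupOf (P : Subgroup G))
    rw [hcard, Nat.card_congr (subgroupOfEquivOfLe (zpowers_le.mpr hσ)).toEquiv, Nat.card_zpowers,
      hσo] at h
    rw [relIndex]
    omega
  have hall : ∀ s : G, orderOf s = 2 → IsConj (σ ^ 2) s := by
    intro s hs
    obtain ⟨Q, hQ⟩ := (IsPGroup.of_card (p := 2) (n := 1)
      (show Nat.card (zpowers s) = 2 ^ 1 by rw [Nat.card_zpowers, hs]; rfl)).exists_le_sylow
    obtain ⟨g, hg⟩ := MulAction.exists_smul_eq G Q P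
    have hsP : g * s * g⁻¹ ∈ (P : Subgroup G) := by
      rw [← hg]
      exact ⟨s, hQ (mem_zpowers s), rfl⟩
    suffices h : ∀ u ∈ (P : Subgroup G), orderOf u = 2 → IsConj (σ ^ 2) u by
      exact (h _ hsP (by rw [orderOf_conj31, hs])).trans
        (isConj_comm.mp (isConj_iff.mpr ⟨g, rfl⟩))
    intro u hu huo
    by_contra hcon
    obtain ⟨M, -, hM, -⟩ := CfsgLib.Transfer.thompson_transfer P (zpowers σ) hQi u
      (huo ▸ pow_orderOf_eq_one u) fun g _ hm => by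
        have h1 := congrArg Subtype.val (CfsgLib.Involutions.involution_unique_of_cyclic
          (C := zpowers σ) (a := ⟨_, hm⟩) (b := ⟨σ ^ 2, pow_mem (mem_zpowers σ) 2⟩)
          (by rw [← orderOf_coe]; simp only; rw [orderOf_conj31, huo])
          (by rw [← orderOf_coe]; simp only; rw [orderOf_pow' _ two_ne_zero, hσo]; rfl))
        exact hcon (isConj_comm.mp (isConj_iff.mpr ⟨g, h1⟩))
    exact no_index_two hG hM
  exact ⟨⟨P, σ, t, hσ, t.2, hσo, hto, hrel, hgen, ⟨e⟩, hC,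
    fun s u hs hu => (hall s hs).symm.trans (hall u hu)⟩⟩

end CfsgLib.SmallCent31
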