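import Cfsg.Agent.Lib.SmallCent31.CharTools
import Cfsg.Agent.Lib.SmallCent31.Reduce
import Cfsg.Agent.Lib.BlockCover.Regular
import Cfsg.Agent.Lib.Blocks12.KleinOrder
import Cfsg.Agent.Lib.Characters.NormalRes
import Cfsg.Agent.Lib.Characters.LinearTwist
import Cfsg.Agent.S4481
import Cfsg.Agent.S0948

/-!
# A group with dihedral Sylow 2-subgroup of order eight over a subgroup of index two

`H` has index two, its Sylow four group `{1, z, τ, zτ}` is fused in `H`, and the rotations are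
self-centralizing.  The principal blocks of the two groups determine `|H|` up to a parameter.
-/

set_option autoImplicit false
set_option linter.style.haveILetI false
set_option linter.unusedSectionVars false

noncomputable section

namespace CfsgLib.SmallCent31

open Cfsg Subgroup CfsgLib.Characters
open CfsgLib.ClassCount (pairs mem_cls degree_eq exists_mult)
open CfsgLib.LinearTwist (isIrr_mul_hom)
open scoped ComplexConjugate

universe u

/-- The hypotheses. -/
structure IdxTwo {G : Type u} [Group G] (H : Subgroup G) (P : Sylow 2 G) (σ τ : G) : Prop where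
  index : H.index = 2
  iso : Nonempty ((P : Subgroup G) ≃* DihedralGroup 4)
  σP : σ ∈ (P : Subgroup G)
  τP : τ ∈ (P : Subgroup G)
  σo : orderOf σ = 4
  τo : orderOf τ = 2
  rel : τ * σ * τ⁻¹ = σ⁻¹
  cases : ∀ p ∈ (P : Subgroup G), ∃ k < 4, p = σ ^ k ∨ p = σ ^ k * τ
  σH : σ ∉ H
  τH : τ ∈ H
  cent : Nat.card (centralizer ({σ} : Set G)) = 4
  fuse : ∃ y ∈ H, y * σ ^ 2 * y⁻¹ = τ ∧ y * τ * y⁻¹ = σ ^ 2 * τ
  core : ∀ u : G, u * σ ^ 2 = σ ^ 2 * u → Odd (orderOf u) → u ∈ centralizerPPrimeCore 2 (σ ^ 2)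

variable {G : Type u} [Group G] [Finite G]

theorem card_cent_inf {H : Subgroup G} (x : H) :
    Nat.card (centralizer ({x} : Set H)) = Nat.card (centralizer ({(x : G)} : Set G) ⊓ H : Subgroup G) := by
  refine Nat.card_congr ⟨fun a => ⟨(a : H), ?_, (a : H).2⟩, fun a => ⟨⟨a, a.2.2⟩, ?_⟩, fun _ => rfl,
    fun _ => rfl⟩
  · exact mem_centralizer_singleton_iff.mpr
      (congrArg Subtype.val (mem_centralizer_singleton_iff.mp a.2))
  · exact mem_centralizer_singleton_iff.mpr (Subtype.ext (mem_centralizer_singleton_iff.mp a.2.1))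

theorem card_inf_index_two {H C : Subgroup G} (hH : H.index = 2) {c : G} (hc : c ∈ C)
    (hcH : c ∉ H) : 2 * Nat.card (C ⊓ H : Subgroup G) = Nat.card C := by
  have h2 : (H.subgroupOf C).index = 2 := by
    rw [index_eq_two_iff]
    refine ⟨⟨c, hc⟩, fun b => ?_⟩
    simp only [mem_subgroupOf, coe_mul]
    by_cases hb : (b : G) ∈ H
    · exact Or.inr ⟨hb, fun h => hcH ((mul_mem_cancel_left hb).mp h)⟩
    · refine Or.inl ⟨?_, hb⟩
      rw [Subgroup.mul_mem_iff_of_index_two hH]
      exact iff_of_false hb hcH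
  have h := (H.subgroupOf C).card_mul_index
  have e : Nat.card (H.subgroupOf C) = Nat.card (C ⊓ H : Subgroup G) :=
    Nat.card_congr ⟨fun a => ⟨(a : C), (a : C).2, a.2⟩, fun a => ⟨⟨a, a.2.1⟩, a.2.2⟩, fun _ => rfl,
      fun _ => rfl⟩
  rw [h2, e] at h
  omega

theorem sign_cast {δ : ℤ} (h : δ = 1 ∨ δ = -1) : (δ : ℂ) * δ = 1 := by
  rcases h with rfl | rfl <;> norm_num

theorem injective_four {α : Type*} {a b c d : α} (hab : a ≠ b) (hac : a ≠ c) (had : a ≠ d)
    (hbc : b ≠ c) (hbd : b ≠ d) (hcd : c ≠ d) : Function.Injective ![a, b, c, d] := by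
  intro i j h
  fin_cases i <;> fin_cases j <;> first
    | rfl
    | exact absurd h hab | exact absurd h.symm hab
    | exact absurd h hac | exact absurd h.symm hac
    | exact absurd h had | exact absurd h.symm had
    | exact absurd h hbc | exact absurd h.symm hbc
    | exact absurd h hbd | exact absurd h.symm hbd
    | exact absurd h hcd | exact absurd h.symm hcd

set_option maxHeartbeats 1000000 in
/-- The order equations of `H`. -/
theorem IdxTwo.eqs {H : Subgroup G} {P : Sylow 2 G} {σ τ : G} (D : IdxTwo H P σ τ) :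
    ∃ n : ℤ, n ≠ 0 ∧
      (Nat.card H : ℤ) * n ^ 2 *
          (Nat.card (centralizer ({σ ^ 2, τ} : Set G) ⊓ H : Subgroup G) : ℤ) ^ 2 =
        (4 * n + 1) * (2 * n + 1) *
          (Nat.card (centralizer ({σ ^ 2} : Set G) ⊓ H : Subgroup G) : ℤ) ^ 3 ∧
      (Nat.card (centralizer ({σ ^ 2} : Set G) ⊓ H : Subgroup G) : ℤ) *
          Nat.card (centralizer ({σ * τ} : Set G)) * (4 * n + 1) = 4 * Nat.card H * n ∧
      (n = -1 → ∃ f : H →* ℂˣ, f ≠ 1 ∧ ∀ g : H, (g : G) * σ ^ 2 = σ ^ 2 * (g : G) → f g = 1) := by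
  classical
  letI := Fintype.ofFinite G
  letI : Fintype H := Fintype.ofFinite H
  haveI hHn : H.Normal := normal_of_index_eq_two D.index
  haveI : Fact (Nat.Prime 2) := ⟨Nat.prime_two⟩
  obtain ⟨y, hyH, hy1, hy2⟩ := D.fuse
  set z := σ ^ 2 with hz
  have hzo : orderOf z = 2 := by rw [hz, orderOf_pow' _ two_ne_zero, D.σo]; rfl
  have hτ2 : τ * τ = 1 := by rw [← pow_two, ← D.τo, pow_orderOf_eq_one]
  have hτi : τ⁻¹ = τ := inv_eq_of_mul_eq_one_right hτ2
  have hσ4 : σ ^ 4 = 1 := by rw [← D.σo, pow_orderOf_eq_one]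
  have hzH : z ∈ H := by rw [hz, pow_two]; exact Subgroup.mul_self_mem_of_index_two D.index σ
  have hστH : σ * τ ∉ H := fun h => D.σH ((mul_mem_cancel_right D.τH).mp h)
  have hzτ : z * τ = τ * z := by
    have h1 : τ * z * τ⁻¹ = z := by
      rw [hz, ← conj_pow, D.rel, inv_pow, inv_eq_of_mul_eq_one_right]
      rw [← pow_add, hσ4]
    exact (mul_inv_eq_iff_eq_mul.mp h1).symm
  have hzc : z * σ = σ * z := ((Commute.refl σ).pow_left 2).eq
  have cz_τ : IsConj z τ := isConj_iff.mpr ⟨y, hy1⟩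
  have cz_zτ : IsConj z (z * τ) := cz_τ.trans (isConj_iff.mpr ⟨y, hy2⟩)
  have hσστ : σ * (σ * τ) * σ⁻¹ = σ ^ 3 * τ := by
    have h1 : τ * σ⁻¹ = σ * τ := by
      rw [← D.rel, hτi, ← mul_assoc, ← mul_assoc, hτ2, one_mul]
    rw [mul_assoc, mul_assoc, h1]; simp only [pow_succ, pow_zero, one_mul, mul_assoc]
  have cστ : IsConj (σ * τ) (σ ^ 3 * τ) := isConj_iff.mpr ⟨σ, hσστ⟩
  obtain ⟨M, hM⟩ : ∃ M : Ideal AlgInt, IsPModular 2 M :=
    CfsgLib.BlockCover.exists_isPModular Nat.prime_two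
  obtain ⟨ζ, hζ⟩ : ∃ ζ : ℂ, IsPrimitiveRoot ζ (2 ^ (3 - 1)) :=
    ⟨_, Complex.isPrimitiveRoot_exp _ (by norm_num)⟩
  obtain ⟨-, χ₁, χ₂, χ₃, χ', δ₁, δ₂, δ₃, hd1, hd2, hd3, -, n1, n2, n3, n12, n13, n23, nL, hB, hv,
      hreg⟩ :=
    Cfsg.Agent.S4481.result M hM 3 le_rfl P D.iso σ D.σP D.σo ζ hζ
  obtain ⟨v11, v21, v31, -⟩ := hv 1 one_pos (by norm_num)
  obtain ⟨v12, v22, v32, v42⟩ := hv 2 two_pos (by norm_num)
  rw [pow_one] at v11 v21 v31
  norm_num at v21 v31 v22 v32
  rw [← hz] at v12 v22 v32 v42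
  set j₀ : Fin (2 ^ (3 - 2) - 1) := ⟨0, by norm_num⟩ with hj₀
  set η := χ' j₀ with hη
  have hζ2 : ζ ^ 2 = -1 := (hζ.pow (by norm_num) (show 2 ^ (3 - 1) = 2 * 2 by norm_num)).eq_neg_one_of_two_right
  have v4 : (η : G → ℂ) z = -2 * (δ₁ : ℂ) := by
    rw [hη, v42 j₀]
    simp only [hj₀, zero_add, one_mul, hζ2]
    norm_num; ring
  obtain ⟨-, hrel1⟩ := hreg 1 (by simp) j₀
  -- the sign character
  let lam : G →* ℂˣ :=
    { toFun := fun g => if g ∈ H then 1 else -1
      map_one' := if_pos H.one_mem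
      map_mul' := fun a b => by
        have := mul_mem_iff_of_index_two D.index (a := a) (b := b)
        by_cases ha : a ∈ H <;> by_cases hb : b ∈ H <;> simp [ha, hb, this] }
  have lam_in : ∀ g ∈ H, ((lam g : ℂˣ) : ℂ) = 1 := fun g hg => by simp [lam, hg]
  have lam_out : ∀ g ∉ H, ((lam g : ℂˣ) : ℂ) = -1 := fun g hg => by simp [lam, hg]
  let lamI : IrrCharacter G := ⟨fun g => (lam g : ℂ), isIrrCharacter_of_hom lam⟩
  have hnorm1 : ∀ {δ : ℤ}, (δ = 1 ∨ δ = -1) → ‖(δ : ℂ)‖ = 1 := by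
    rintro δ (rfl | rfl) <;> simp
  have hinj : Function.Injective ![principalIrr G, χ₁, χ₂, χ₃] :=
    injective_four (fun h => n1 (h ▸ rfl)) (fun h => n2 (h ▸ rfl)) (fun h => n3 (h ▸ rfl)) n12 n13 n23
  have hsupp := support_four D.cent _ hinj (by
    intro i
    fin_cases i
    · simp [principalIrr]
    · show ‖(χ₁ : G → ℂ) σ‖ = 1
      rw [v11]; exact hnorm1 hd1
    · show ‖(χ₂ : G → ℂ) σ‖ = 1
      rw [v21]; exact hnorm1 hd2
    · show ‖(χ₃ : G → ℂ) σ‖ = 1
      rw [v31]; exact hnorm1 hd3)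
  have hmem4 : ∀ χ : IrrCharacter G, (χ : G → ℂ) σ ≠ 0 →
      χ = principalIrr G ∨ χ = χ₁ ∨ χ = χ₂ ∨ χ = χ₃ := by
    intro χ hχ
    by_contra hcon
    push Not at hcon
    refine hχ (hsupp χ fun i => ?_)
    fin_cases i
    exacts [hcon.1, hcon.2.1, hcon.2.2.1, hcon.2.2.2]
  -- up to exchanging the labels the sign character is `χ₂`
  obtain ⟨δ, a, c, hδ, hac, va, va', vc, vc', hfour⟩ : ∃ (δ : ℤ) (a c : IrrCharacter G),
      (δ = 1 ∨ δ = -1) ∧ (a ≠ c ∧ a ≠ lamI ∧ c ≠ lamI ∧ a ≠ principalIrr G ∧ c ≠ principalIrr G) ∧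
      (a : G → ℂ) σ = δ ∧ (a : G → ℂ) z = δ ∧ (c : G → ℂ) σ = -(δ : ℂ) ∧
      (c = ⟨fun g => (a : G → ℂ) g * (lam g : ℂ), isIrr_mul_hom a.2 lam⟩) ∧ a = χ₁ := by
    refine ⟨δ₁, χ₁, ⟨fun g => (χ₁ : G → ℂ) g * (lam g : ℂ), isIrr_mul_hom χ₁.2 lam⟩, hd1,
      ⟨?_, ?_, ?_, ?_, ?_⟩, v11, v12, ?_, rfl, rfl⟩
    · intro e
      have := congrArg (fun χ : IrrCharacter G => (χ : G → ℂ) σ) e
      simp only [v11, lam_out σ D.σH] at this
      rcases hd1 with e1 | e1 <;> simp [e1] at this <;> norm_num at this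
    · intro e
      have h1 := congrArg (fun χ : IrrCharacter G => (χ : G → ℂ) σ) e
      have h2 := congrArg (fun χ : IrrCharacter G => (χ : G → ℂ) z) e
      simp only [lamI, v11, v12, lam_out σ D.σH, lam_in z hzH] at h1 h2
      rw [h1] at h2
      norm_num at h2
    · intro e
      apply n1
      funext g
      have := congrArg (fun χ : IrrCharacter G => (χ : G → ℂ) g) e
      simp only [lamI] at this
      have h0 : ((lam g : ℂˣ) : ℂ) ≠ 0 := Units.ne_zero _
      exact mul_right_cancel₀ h0 (this.trans (one_mul _).symm)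
    · exact fun e => n1 (e ▸ rfl)
    · intro e
      have h1 := congrArg (fun χ : IrrCharacter G => (χ : G → ℂ) σ) e
      have h2 := congrArg (fun χ : IrrCharacter G => (χ : G → ℂ) z) e
      simp only [principalIrr_apply, v11, v12, lam_out σ D.σH, lam_in z hzH, mul_one] at h1 h2
      rw [h2] at h1
      norm_num at h1
    · show (χ₁ : G → ℂ) σ * (lam σ : ℂ) = _
      rw [v11, lam_out σ D.σH]; ring
  subst hfour
  obtain ⟨hac1, hac2, hac3, hac4, hac5⟩ := hac
  have hd : δ = δ₁ := by exact_mod_cast va.symm.trans v11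
  subst hd
  have vc_ev : ∀ g : G, (c : G → ℂ) g = (a : G → ℂ) g * (lam g : ℂ) := fun g => by rw [vc']
  have hlne : lamI ≠ principalIrr G := fun e => by
    have := congrArg (fun χ : IrrCharacter G => (χ : G → ℂ) σ) e
    simp only [lamI, lam_out σ D.σH, principalIrr_apply] at this
    norm_num at this
  -- the four characters
  have hinj' : Function.Injective ![principalIrr G, a, lamI, c] :=
    injective_four hac4.symm hlne.symm hac5.symm hac2 hac1 hac3.symm
  have hsupp' := support_four D.cent _ hinj' (by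
    intro i
    fin_cases i
    · simp [principalIrr]
    · show ‖(a : G → ℂ) σ‖ = 1
      rw [va]; exact hnorm1 hδ
    · show ‖((lam σ : ℂˣ) : ℂ)‖ = 1
      rw [lam_out σ D.σH]; simp
    · show ‖(c : G → ℂ) σ‖ = 1
      rw [vc, norm_neg]; exact hnorm1 hδ)
  -- the value of `a` at `στ`
  have va'' : (a : G → ℂ) (σ * τ) = -(δ : ℂ) := by
    have hnc : ¬ IsConj σ (σ * τ) := fun h => by
      obtain ⟨w, hw⟩ := isConj_iff.mp h
      have h1 := congrArg orderOf hw
      rw [orderOf_conj31, D.σo] at h1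
      have h2 : orderOf (σ * τ) ∣ 2 := by
        apply orderOf_dvd_of_pow_eq_one
        have e : τ * σ = σ⁻¹ * τ := by rw [← D.rel]; group
        rw [pow_two, mul_assoc, ← mul_assoc τ, e, mul_assoc, hτ2, mul_one, mul_inv_cancel]
      rw [← h1] at h2
      norm_num at h2
    have h := column_orth (G := G) (σ * τ) σ
    rw [if_neg (fun h => hnc h.symm), ← Finset.sum_subset (Finset.subset_univ
      (Finset.univ.image ![principalIrr G, a, lamI, c]))] at h
    · rw [Finset.sum_image (fun i _ j _ h => hinj' h), Fin.sum_univ_four] at h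
      simp only [Matrix.cons_val, principalIrr_apply, lamI, va, vc, vc_ev, lam_out σ D.σH,
        lam_out _ hστH, map_one, map_neg, map_intCast, mul_one] at h
      linear_combination ((δ : ℂ) / 2) * h - (a : G → ℂ) (σ * τ) * sign_cast hδ
    · intro χ _ hχ
      rw [hsupp' χ (fun i e => hχ (by simp [e])), map_zero, mul_zero]
  set x := charDegree (a : G → ℂ) with hx
  have hx1 : (a : G → ℂ) 1 = x := (degree_eq a).1
  have hx0 : (x : ℂ) ≠ 0 := Nat.cast_ne_zero.mpr (degree_eq a).2.2.ne'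
  -- congruence
  have hcong : (8 : ℤ) ∣ (x : ℤ) + 3 * δ := by
    obtain ⟨m, hm⟩ := exists_mult a (P : Subgroup G)
    refine ⟨m, ?_⟩
    have hc8 : Nat.card (P : Subgroup G) = 8 := by
      obtain ⟨e⟩ := D.iso
      rw [Nat.card_congr e.toEquiv, DihedralGroup.nat_card]
    set F : Finset G := {1, σ, σ ^ 2, σ ^ 3, τ, σ * τ, σ ^ 2 * τ, σ ^ 3 * τ} with hF
    have hFP : ∀ g, g ∈ F ↔ g ∈ (P : Subgroup G) := by
      intro g
      simp only [hF, Finset.mem_insert, Finset.mem_singleton]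
      constructor
      · rintro (rfl | rfl | rfl | rfl | rfl | rfl | rfl | rfl)
        all_goals first
          | exact one_mem _
          | exact D.σP
          | exact D.τP
          | exact pow_mem D.σP _
          | exact mul_mem D.σP D.τP
          | exact mul_mem (pow_mem D.σP _) D.τP
      · intro hg
        obtain ⟨k, hk, e | e⟩ := D.cases g hg <;> interval_cases k <;> simp [e]
    have hsum : ∑ p : (P : Subgroup G), (a : G → ℂ) ((p : G)⁻¹) = ∑ g ∈ F, (a : G → ℂ) g := by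
      rw [Finset.sum_subtype F hFP (fun g => (a : G → ℂ) g)]
      exact Fintype.sum_equiv (Equiv.inv _) _ _ fun p => rfl
    have hcardF : F.card = 8 := by
      rw [← hc8, ← Nat.card_eq_finsetCard F]
      exact Nat.card_congr (Equiv.subtypeEquivRight hFP)
    have hcf := fun {g h : G} (e : IsConj g h) =>
      classFunction_eq_of_isConj (irr_isClassFunction a) e
    have hval : ∑ g ∈ F, (a : G → ℂ) g = (x : ℂ) + 3 * δ := by
      have d7 : ({σ, σ ^ 2, σ ^ 3, τ, σ * τ, σ ^ 2 * τ, σ ^ 3 * τ} : Finset G).card ≤ 7 :=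
        le_trans (Finset.card_insert_le _ _) (Nat.succ_le_succ (le_trans (Finset.card_insert_le _ _)
          (Nat.succ_le_succ (le_trans (Finset.card_insert_le _ _) (Nat.succ_le_succ (le_trans
          (Finset.card_insert_le _ _) (Nat.succ_le_succ (le_trans (Finset.card_insert_le _ _)
          (Nat.succ_le_succ (le_trans (Finset.card_insert_le _ _) (Nat.succ_le_succ
          (Finset.card_singleton _).le)))))))))))
      have hnd : [1, σ, σ ^ 2, σ ^ 3, τ, σ * τ, σ ^ 2 * τ, σ ^ 3 * τ].Nodup := by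
        rw [← Multiset.coe_nodup, ← Multiset.toFinset_card_eq_card_iff_nodup]
        simpa [hF] using hcardF
      have : F = [1, σ, σ ^ 2, σ ^ 3, τ, σ * τ, σ ^ 2 * τ, σ ^ 3 * τ].toFinset := by simp [hF]
      rw [this, List.sum_toFinset _ hnd]
      have e3 : (a : G → ℂ) (σ ^ 3) = δ := (hv 3 (by norm_num) (by norm_num)).1
      simp only [List.map_cons, List.map_nil, List.sum_cons, List.sum_nil, hx1, va, e3, ← hz, va',
        ← hcf cz_τ, ← hcf cz_zτ, ← hcf cστ, va'']
      ring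
    rw [hsum, hval, hc8] at hm
    have : (((x : ℤ) + 3 * δ : ℤ) : ℂ) = ((8 * (m : ℤ) : ℤ) : ℂ) := by push_cast at hm ⊢; exact hm
    exact_mod_cast this
  obtain ⟨k, hk⟩ : (8 : ℤ) ∣ δ * (x : ℤ) - 5 := by
    rcases hδ with e | e <;> rw [e] at hcong ⊢ <;> omega
  set n := 2 * k + 1 with hn
  have he : δ * (x : ℤ) = 4 * n + 1 := by omega
  have hn0 : n ≠ 0 := by omega
  -- the pairs
  have hpairs : (pairs z (σ * τ) {σ}).card = 2 := by
    have hset : pairs z (σ * τ) {σ} = {(τ, τ * σ), (z * τ, z * τ * σ)} := by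
      ext ⟨s, t⟩
      simp only [pairs, Finset.mem_filter, Finset.mem_product, mem_cls, Finset.mem_singleton,
        Finset.mem_insert, Prod.mk.injEq]
      constructor
      · rintro ⟨⟨hs, ht⟩, hst⟩
        obtain ⟨c1, hc1⟩ := isConj_iff.mp hs
        obtain ⟨c2, hc2⟩ := isConj_iff.mp ht
        have hsH : s ∈ H := hc1 ▸ hHn.conj_mem z hzH c1
        have hs2 : s * s = 1 := by
          rw [← pow_two, ← hc1, conj_pow, hz, ← pow_mul, hσ4, mul_one, mul_inv_cancel]
        have hστ2 : σ * τ * (σ * τ) = 1 := by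
          have e : τ * σ = σ⁻¹ * τ := by rw [← D.rel]; group
          rw [mul_assoc, ← mul_assoc τ, e, mul_assoc, hτ2, mul_one, mul_inv_cancel]
        have ht2 : t * t = 1 := by
          rw [← hc2]
          calc c2 * (σ * τ) * c2⁻¹ * (c2 * (σ * τ) * c2⁻¹) = c2 * (σ * τ * (σ * τ)) * c2⁻¹ := by group
            _ = 1 := by rw [hστ2]; group
        have hts : t = s * σ := by rw [← hst, ← mul_assoc, hs2, one_mul]
        have hinv : s * σ * s⁻¹ = σ⁻¹ := by
          rw [← hts, ← hst, mul_inv_rev, inv_eq_of_mul_eq_one_right ht2]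
        have hCz : centralizer ({σ} : Set G) = zpowers σ := (eq_of_le_of_card_ge
          (zpowers_le.mpr (mem_centralizer_singleton_iff.mpr rfl))
          (by rw [D.cent, Nat.card_zpowers, D.σo])).symm
        have h1 : τ * s ∈ zpowers σ := by
          rw [← hCz, mem_centralizer_singleton_iff, ← mul_inv_eq_iff_eq_mul]
          calc τ * s * σ * (τ * s)⁻¹ = τ * (s * σ * s⁻¹) * τ⁻¹ := by group
            _ = (τ * σ * τ⁻¹)⁻¹ := by rw [hinv]; group
            _ = σ := by rw [D.rel, inv_inv]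
        obtain ⟨i, hi⟩ := h1
        simp only at hi
        have hs' : s = τ * σ ^ i := by rw [hi, ← mul_assoc, hτ2, one_mul]
        rcases Int.even_or_odd i with ⟨l, hl⟩ | ⟨l, hl⟩
        · rcases Int.even_or_odd l with ⟨l', hl'⟩ | ⟨l', hl'⟩
          · left
            have : s = τ := by
              rw [hs', show i = (4 : ℤ) * l' by omega, zpow_mul, show (4 : ℤ) = ((4 : ℕ) : ℤ) from rfl,
                zpow_natCast, hσ4, one_zpow, mul_one]
            exact ⟨this, this ▸ hts⟩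
          · right
            have : s = z * τ := by
              rw [hs', show i = (4 : ℤ) * l' + ((2 : ℕ) : ℤ) by push_cast; omega, zpow_add, zpow_mul,
                show (4 : ℤ) = ((4 : ℕ) : ℤ) from rfl, zpow_natCast, hσ4, one_zpow, one_mul,
                zpow_natCast, ← hz, hzτ]
            exact ⟨this, this ▸ hts⟩
        · exfalso
          rw [hs'] at hsH
          have h2 := (mul_mem_cancel_left D.τH).mp hsH
          rw [hl, zpow_add_one] at h2
          refine D.σH ((mul_mem_cancel_left (zpow_mul σ 2 l ▸ zpow_mem ?_ l)).mp h2)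
          rw [show (2 : ℤ) = ((2 : ℕ) : ℤ) from rfl, zpow_natCast]; exact hzH
      · rintro (⟨rfl, rfl⟩ | ⟨rfl, rfl⟩)
        · refine ⟨⟨cz_τ, cστ.trans ?_⟩, by rw [← mul_assoc, hτ2, one_mul]⟩
          have e : σ ^ 3 * s = s * σ := by
            rw [mul_inv_eq_iff_eq_mul.mp D.rel,
              inv_eq_of_mul_eq_one_right (show σ * σ ^ 3 = 1 by rw [← pow_succ', hσ4])]
          rw [e]
        · refine ⟨⟨cz_zτ, ?_⟩, ?_⟩
          · have e : z * τ * σ = σ * τ := by
              have e1 : τ * σ = σ⁻¹ * τ := by rw [← D.rel]; group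
              rw [mul_assoc, e1, ← mul_assoc, hz, pow_two, mul_inv_cancel_right]
            rw [e]
          · rw [← mul_assoc]
            have : z * τ * (z * τ) = 1 := by
              rw [mul_assoc, ← mul_assoc τ, ← hzτ, ← mul_assoc, ← mul_assoc, hz, ← pow_add, hσ4,
                one_mul, hτ2]
            rw [this, one_mul]
    rw [hset, Finset.card_pair]
    intro e
    have h1 : τ = z * τ := congrArg Prod.fst e
    have : z = 1 := mul_right_cancel (h1.symm.trans (one_mul τ).symm)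
    rw [this, orderOf_one] at hzo
    norm_num at hzo
  have hp := pairs_four z (σ * τ) σ _ hinj' hsupp'
  rw [hpairs, Fin.sum_univ_four] at hp
  simp only [Matrix.cons_val, principalIrr_apply, lamI, va, va', vc, va'', vc_ev, lam_out σ D.σH,
    lam_in z hzH, lam_out _ hστH, map_one, map_neg, map_intCast, mul_one, div_one, hx1, Units.val_one] at hp
  set cH := Nat.card (centralizer ({z} : Set G) ⊓ H : Subgroup G) with hcH
  have hcz : Nat.card (centralizer ({z} : Set G)) = 2 * cH :=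
    (card_inf_index_two D.index (mem_centralizer_singleton_iff.mpr hzc.symm) D.σH).symm
  rw [hcz] at hp
  have hcardG : Nat.card G = 2 * Nat.card H := by
    have := H.card_mul_index; rw [D.index] at this; omega
  have heC : (δ : ℂ) * x = 4 * n + 1 := by exact_mod_cast he
  have he0 : (4 * (n : ℂ) + 1) ≠ 0 := by
    rw [← heC]; exact mul_ne_zero (by rcases hδ with e | e <;> simp [e]) hx0
  have hsecond : ((cH : ℤ) * Nat.card (centralizer ({σ * τ} : Set G)) * (4 * n + 1) : ℤ) =
      4 * (Nat.card H : ℤ) * n := by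
    have : (((cH : ℤ) * Nat.card (centralizer ({σ * τ} : Set G)) * (4 * n + 1) : ℤ) : ℂ) =
        ((4 * (Nat.card H : ℤ) * n : ℤ) : ℂ) := by
      push_cast at hp ⊢
      rw [hcardG] at hp
      push_cast at hp
      field_simp at hp
      linear_combination ((δ : ℂ) / 2) * hp - (cH : ℂ) * (Nat.card (centralizer ({σ * τ} : Set G)) : ℂ) * heC +
        (Nat.card H : ℂ) * heC - (Nat.card H : ℂ) * ((δ : ℂ) * δ + 1) * sign_cast hδ
    exact_mod_cast this
  -- the subgroup `H`
  set V' : Subgroup H := (P : Subgroup G).subgroupOf H with hV'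
  have hVp : IsPGroup 2 V' := by
    intro v
    obtain ⟨i, hi⟩ := P.isPGroup' ⟨((v : H) : G), v.2⟩
    exact ⟨i, Subtype.ext (Subtype.ext (by simpa using congrArg Subtype.val hi))⟩
  have hc8 : Nat.card (P : Subgroup G) = 8 := by
    obtain ⟨e⟩ := D.iso
    rw [Nat.card_congr e.toEquiv, DihedralGroup.nat_card]
  have hVcard : Nat.card V' = 4 := by
    have h := card_inf_index_two D.index D.σP D.σH
    have e : Nat.card V' = Nat.card ((P : Subgroup G) ⊓ H : Subgroup G) :=
      Nat.card_congr ⟨fun a => ⟨((a : H) : G), a.2, (a : H).2⟩, fun a => ⟨⟨a, a.2.2⟩, a.2.1⟩,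
        fun _ => rfl, fun _ => rfl⟩
    omega
  have hVidx : ¬ 2 ∣ V'.index := by
    have h1 := V'.card_mul_index
    have h2 := (P : Subgroup G).card_mul_index
    have h3 := P.not_dvd_index
    rw [hVcard] at h1
    rw [hc8] at h2
    have : V'.index = (P : Subgroup G).index := by omega
    rw [this]; exact h3
  set Q : Sylow 2 H := hVp.toSylow hVidx with hQ
  have hQV : (Q : Subgroup H) = V' := rfl
  have hVmem : ∀ v : H, v ∈ V' → (v : G) = 1 ∨ (v : G) = z ∨ (v : G) = τ ∨ (v : G) = z * τ := by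
    intro v hv'
    obtain ⟨i, hi, e | e⟩ := D.cases (v : G) hv' <;> have hvH := v.2 <;> rw [e] at hvH ⊢ <;>
      interval_cases i
    · simp
    · rw [pow_one] at hvH; exact absurd hvH D.σH
    · exact Or.inr (Or.inl rfl)
    · rw [pow_succ] at hvH; exact absurd ((mul_mem_cancel_left hzH).mp hvH) D.σH
    · simp
    · rw [pow_one] at hvH; exact absurd hvH hστH
    · exact Or.inr (Or.inr (Or.inr rfl))
    · rw [pow_succ, mul_assoc] at hvH; exact absurd ((mul_mem_cancel_left hzH).mp hvH) hστH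
  let zH : H := ⟨z, hzH⟩
  let τH : H := ⟨τ, D.τH⟩
  have hzHo : orderOf zH = 2 := by rw [← orderOf_coe]; exact hzo
  have hone : ∀ s t : H, orderOf s = 2 → orderOf t = 2 → IsConj s t := by
    suffices h : ∀ s : H, orderOf s = 2 → IsConj zH s from fun s t hs ht => (h s hs).symm.trans (h t ht)
    intro s hs
    obtain ⟨R, hR⟩ := (IsPGroup.of_card (p := 2) (n := 1)
      (show Nat.card (zpowers s) = 2 ^ 1 by rw [Nat.card_zpowers, hs]; rfl)).exists_le_sylow
    obtain ⟨g, hg⟩ := MulAction.exists_smul_eq H R Q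
    have hsV : g * s * g⁻¹ ∈ V' := by
      rw [← hQV, ← hg]; exact ⟨s, hR (mem_zpowers s), rfl⟩
    refine IsConj.trans ?_ (isConj_iff.mpr ⟨g, rfl⟩).symm
    have hy' : IsConj zH τH := isConj_iff.mpr ⟨⟨y, hyH⟩, Subtype.ext hy1⟩
    rcases hVmem _ hsV with e | e | e | e
    · exfalso
      have := orderOf_conj31 g s
      rw [← orderOf_coe, e, orderOf_one, hs] at this
      norm_num at this
    · exact (show zH = g * s * g⁻¹ from Subtype.ext e.symm) ▸ IsConj.refl _
    · exact (show τH = g * s * g⁻¹ from Subtype.ext e.symm) ▸ hy'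
    · refine hy'.trans (isConj_iff.mpr ⟨⟨y, hyH⟩, Subtype.ext ?_⟩)
      rw [e]; exact hy2
  have hkl : IsKleinFour (Q : Subgroup H) := by
    refine ⟨by rw [hQV, hVcard], ?_⟩
    have hz2 : z ^ 2 = 1 := by rw [← hzo, pow_orderOf_eq_one]
    refine (Nat.prime_two.eq_one_or_self_of_dvd _ (Monoid.exponent_dvd_of_forall_pow_eq_one
      fun v => ?_)).resolve_left ?_
    · refine Subtype.ext (Subtype.ext ?_)
      push_cast
      rcases hVmem _ v.2 with e | e | e | e <;> rw [e]
      · simp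
      · exact hz2
      · rw [pow_two, hτ2]
      · rw [(show Commute z τ from hzτ).mul_pow, hz2, pow_two, hτ2, one_mul]
    · intro h1
      haveI := Monoid.exp_eq_one_iff.mp h1
      have := Finite.card_le_one_iff_subsingleton.mpr (inferInstance : Subsingleton (Q : Subgroup H))
      rw [hQV, hVcard] at this
      omega
  obtain ⟨z2, z3, z4, ε, hε, zn2, zn3, z23, z24, z34, hBH, hvH', zc2, -, zc4, -⟩ :=
    Cfsg.Agent.S0948.result M hM Q hkl hone
  obtain ⟨w2, w3, w4⟩ := hvH' zH hzHo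
  have zn4 : (z4 : H → ℂ) ≠ fun _ => 1 := fun e => by
    rw [e] at w4; norm_num at w4
  have hblk := CfsgLib.KleinOrder.block_data Q hkl hone hM (J := zH)
    (show zH ∈ Q from show (zH : G) ∈ (P : Subgroup G) from pow_mem D.σP 2) hzHo (ε₁ := 1) (ε₂ := ε)
    (ε₃ := -1) hBH ⟨zn2, zn3, zn4, z23, z24, z34⟩ ⟨Or.inl rfl, hε, Or.inr rfl⟩
    ⟨by rw [w2]; norm_num, w3, by rw [w4]; norm_num⟩
  set Ev := Finset.univ.filter (fun g : H => 2 ∣ orderOf g) with hEv
  -- coefficients
  set coef : IrrCharacter H → ℂ := fun θ => (if θ = principalIrr H then 1 else 0) +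
      (if θ = z2 then ((1 : ℤ) : ℂ) else 0) + (if θ = z3 then (ε : ℂ) else 0) +
        (if θ = z4 then ((-1 : ℤ) : ℂ) else 0) with hcoef
  have m2 : principalIrr H ≠ z2 := fun h => zn2 (h ▸ rfl)
  have m3 : principalIrr H ≠ z3 := fun h => zn3 (h ▸ rfl)
  have m4 : principalIrr H ≠ z4 := fun h => zn4 (h ▸ rfl)
  have hsumEv : ∀ θ : IrrCharacter H, ∑ g ∈ Ev, conj ((θ : H → ℂ) g) =
      (Nat.card H : ℂ) / 4 * coef θ := hblk.1
  have hEcard : (Ev.card : ℂ) = (Nat.card H : ℂ) / 4 := by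
    have := hsumEv (principalIrr H)
    simp only [principalIrr_apply, map_one, Finset.sum_const, nsmul_eq_mul, mul_one, hcoef, m2, m3,
      m4, if_true, if_false, add_zero] at this
    exact this
  have hH0 : (Nat.card H : ℂ) / 4 ≠ 0 := by
    have : (Nat.card H : ℂ) ≠ 0 := Nat.cast_ne_zero.mpr Nat.card_pos.ne'
    simp [this]
  have hconstB : ∀ χ : IrrCharacter G, χ ∈ principalBlock M G → ∀ g ∈ Ev,
      (χ : G → ℂ) (g : G) = (χ : G → ℂ) z := by
    intro χ hχ g hg
    obtain ⟨t, u, rfl, ht, hu, hc⟩ := CfsgLib.Involutions.klein_even_decomp Q hkl (Finset.mem_filter.mp hg).2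
    obtain ⟨w, hw⟩ := isConj_iff.mp (hone t zH ht hzHo)
    have hw' : (w : G) * t * (w : G)⁻¹ = z := congrArg Subtype.val hw
    rw [classFunction_eq_of_isConj (irr_isClassFunction χ)
      (isConj_iff.mpr ⟨(w : G), rfl⟩ : IsConj ((t * u : H) : G) ((w : G) * ((t * u : H) : G) * (w : G)⁻¹))]
    have e : (w : G) * ((t * u : H) : G) * (w : G)⁻¹ = z * ((w : G) * u * (w : G)⁻¹) := by
      rw [← hw']; push_cast; group
    rw [e]
    refine CfsgLib.Involutions.principalConstant G M hM z hzo _ (D.core _ ?_ ?_) χ hχ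
    · have hc' : (u : G) * t = t * u := congrArg Subtype.val hc
      rw [← hz, ← hw']
      calc (w : G) * u * (w : G)⁻¹ * ((w : G) * t * (w : G)⁻¹) = (w : G) * ((u : G) * t) * (w : G)⁻¹ := by group
        _ = (w : G) * ((t : G) * u) * (w : G)⁻¹ := by rw [hc']
        _ = _ := by group
    · rw [orderOf_conj31, orderOf_coe]; exact hu
  have hdec : ∀ χ : IrrCharacter G, χ ∈ principalBlock M G →
      ∑ θ : IrrCharacter H, conj (CfsgLib.NormalRes.mult H (χ : G → ℂ) θ) * coef θ =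
        conj ((χ : G → ℂ) z) := by
    intro χ hχ
    refine mul_left_cancel₀ hH0 ?_
    rw [Finset.mul_sum]
    calc ∑ θ : IrrCharacter H, (Nat.card H : ℂ) / 4 * (conj (CfsgLib.NormalRes.mult H (χ : G → ℂ) θ) * coef θ)
        = ∑ θ : IrrCharacter H, conj (CfsgLib.NormalRes.mult H (χ : G → ℂ) θ) *
            ∑ g ∈ Ev, conj ((θ : H → ℂ) g) :=
          Finset.sum_congr rfl fun θ _ => by rw [hsumEv]; ring
      _ = ∑ g ∈ Ev, conj ((χ : G → ℂ) (g : G)) := by
          simp only [Finset.mul_sum]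
          rw [Finset.sum_comm]
          refine Finset.sum_congr rfl fun g _ => ?_
          rw [CfsgLib.NormalRes.res_eq_sum H (irr_isClassFunction χ) g, map_sum]
          simp only [map_mul]
      _ = (Nat.card H : ℂ) / 4 * conj ((χ : G → ℂ) z) := by
          rw [Finset.sum_congr rfl (fun g hg => by rw [hconstB χ hχ g hg]), Finset.sum_const,
            nsmul_eq_mul, hEcard]
  -- norms of the restrictions
  have hnormH : ∀ χ : IrrCharacter G,
      classInner (fun h : H => (χ : G → ℂ) h) (fun h : H => (χ : G → ℂ) h) =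
        1 + classInner (fun g => (χ : G → ℂ) g * (lam g : ℂ)) (χ : G → ℂ) := by
    intro χ
    have h1 : classInner (χ : G → ℂ) (χ : G → ℂ) = 1 := classInner_irr_self χ.2
    have key : ∀ g : G, (χ : G → ℂ) g * conj ((χ : G → ℂ) g) +
        (χ : G → ℂ) g * (lam g : ℂ) * conj ((χ : G → ℂ) g) =
        if g ∈ H then 2 * ((χ : G → ℂ) g * conj ((χ : G → ℂ) g)) else 0 := by
      intro g
      by_cases hg : g ∈ H
      · rw [if_pos hg, lam_in g hg]; ring
      · rw [if_neg hg, lam_out g hg]; ring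
    rw [← h1]
    simp only [classInner]
    rw [← mul_add, ← Finset.sum_add_distrib, Finset.sum_congr rfl (fun g _ => key g),
      ← Finset.sum_filter, ← Finset.mul_sum,
      Finset.sum_subtype (p := fun g => g ∈ H) _ (fun g => by simp)
        (fun g => (χ : G → ℂ) g * conj ((χ : G → ℂ) g)), hcardG]
    have : (Nat.card H : ℂ) ≠ 0 := Nat.cast_ne_zero.mpr Nat.card_pos.ne'
    push_cast
    field_simp
  have hirr : ∀ χ : IrrCharacter G,
      (⟨fun g => (χ : G → ℂ) g * (lam g : ℂ), isIrr_mul_hom χ.2 lam⟩ : IrrCharacter G) ≠ χ →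
      IsIrrCharacter H (fun h : H => (χ : G → ℂ) h) := by
    intro χ hne
    rw [isIrrCharacter_iff_classInner_self (CfsgLib.NormalRes.isCharacter_res H (irr_isCharacter χ))]
    have h := hnormH χ
    have h0 : classInner (fun g => (χ : G → ℂ) g * (lam g : ℂ)) (χ : G → ℂ) = 0 :=
      classInner_irr_ne (isIrr_mul_hom χ.2 lam) χ.2 (fun e => hne (Subtype.ext e))
    rw [h0, add_zero] at h
    linear_combination h
  have hcoef_cases : ∀ θ : IrrCharacter H,
      (θ = principalIrr H ∧ coef θ = 1) ∨ (θ = z2 ∧ coef θ = 1) ∨ (θ = z3 ∧ coef θ = ε) ∨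
      (θ = z4 ∧ coef θ = -1) ∨ coef θ = 0 := by
    intro θ
    by_cases h1 : θ = principalIrr H
    · left; subst h1; simp [hcoef, m2, m3, m4]
    by_cases h2 : θ = z2
    · right; left; subst h2; simp [hcoef, m2.symm, z23, z24]
    by_cases h3 : θ = z3
    · right; right; left; subst h3; simp [hcoef, m3.symm, z23.symm, z34]
    by_cases h4 : θ = z4
    · right; right; right; left; subst h4; simp [hcoef, m4.symm, z24.symm, z34.symm]
    · right; right; right; right; simp [hcoef, h1, h2, h3, h4]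
  have hsingle : ∀ (χ : IrrCharacter G), χ ∈ principalBlock M G →
      ∀ θ : IrrCharacter H, (fun h : H => (χ : G → ℂ) h) = (θ : H → ℂ) →
      coef θ = conj ((χ : G → ℂ) z) := by
    intro χ hχ θ hθ
    rw [← hdec χ hχ, Finset.sum_eq_single θ]
    · rw [CfsgLib.NormalRes.mult, hθ, classInner_irr_self θ.2, map_one, one_mul]
    · intro φ _ hφ
      rw [CfsgLib.NormalRes.mult, hθ, classInner_irr_ne θ.2 φ.2 (fun e => hφ (Subtype.ext e).symm),
        map_zero, zero_mul]
    · simp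
  have haB : a ∈ principalBlock M G := by rw [hB]; exact Or.inr (Or.inl rfl)
  have hηB : η ∈ principalBlock M G := by
    rw [hB]; exact Or.inr (Or.inr (Or.inr (Or.inr ⟨j₀, rfl⟩)))
  -- `ψ`
  let ψ : IrrCharacter H := ⟨fun h : H => (a : G → ℂ) h, hirr a (fun e => hac1 (vc'.trans e).symm)⟩
  have cψ : coef ψ = δ := by rw [hsingle a haB ψ rfl, va', map_intCast]
  -- `θ` and `θ'`
  have hηlam : (⟨fun g => (η : G → ℂ) g * (lam g : ℂ), isIrr_mul_hom η.2 lam⟩ : IrrCharacter G) = η := by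
    by_contra hne
    have h := hsingle η hηB ⟨_, hirr η hne⟩ rfl
    rw [v4] at h
    simp only [map_mul, map_neg, map_ofNat, map_intCast] at h
    rcases hcoef_cases ⟨_, hirr η hne⟩ with ⟨-, e⟩ | ⟨-, e⟩ | ⟨-, e⟩ | ⟨-, e⟩ | e <;> rw [e] at h <;>
      rcases hδ with e1 | e1 <;> (try rcases hε with e2 | e2) <;>
        simp only [e1, Int.cast_one, Int.cast_neg] at h <;>
        (try simp only [e2, Int.cast_one, Int.cast_neg] at h) <;> norm_num at h
  choose mη hmη using fun θ : IrrCharacter H =>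
    CfsgLib.NormalRes.mult_nat H (irr_isCharacter η) θ
  have hsq : ∑ θ : IrrCharacter H, mη θ * mη θ = 2 := by
    have h := hnormH η
    rw [show (fun g => (η : G → ℂ) g * (lam g : ℂ)) = (η : G → ℂ) from congrArg Subtype.val hηlam,
      classInner_irr_self η.2] at h
    have hfun : (fun h : H => (η : G → ℂ) h) = ∑ θ : IrrCharacter H, (mη θ : ℂ) • (θ : H → ℂ) := by
      funext h
      rw [Finset.sum_apply, CfsgLib.NormalRes.res_eq_sum H (irr_isClassFunction η) h]
      simp [hmη]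
    rw [hfun, classInner_sum_left] at h
    rw [Finset.sum_congr rfl (fun θ _ => by
      rw [classInner_smul_left, classInner_conj_symm, ← hfun,
        show classInner (fun h : H => (η : G → ℂ) h) (θ : H → ℂ) = (mη θ : ℂ) from hmη θ,
        Complex.conj_natCast])] at h
    have : ((∑ θ : IrrCharacter H, mη θ * mη θ : ℕ) : ℂ) = ((2 : ℕ) : ℂ) := by
      push_cast; linear_combination h
    exact_mod_cast this
  obtain ⟨θ, θ', hθθ', hmθ, hmθ', hmrest⟩ : ∃ θ θ' : IrrCharacter H, θ ≠ θ' ∧ mη θ = 1 ∧ mη θ' = 1 ∧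
      ∀ φ, φ ≠ θ → φ ≠ θ' → mη φ = 0 := by
    have hle : ∀ φ, mη φ ≤ 1 := fun φ => by
      have h1 : mη φ * mη φ ≤ 2 := by
        rw [← hsq]; exact Finset.single_le_sum (f := fun φ => mη φ * mη φ) (fun _ _ => Nat.zero_le _)
          (Finset.mem_univ φ)
      by_contra hh
      have : 2 * 2 ≤ mη φ * mη φ := Nat.mul_le_mul (by omega) (by omega)
      omega
    have hS : (Finset.univ.filter fun φ => mη φ = 1).card = 2 := by
      rw [← hsq, Finset.card_filter]
      refine Finset.sum_congr rfl fun φ _ => ?_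
      have := hle φ
      interval_cases (mη φ) <;> simp
    obtain ⟨θ, θ', hne, hset⟩ := Finset.card_eq_two.mp hS
    refine ⟨θ, θ', hne, ?_, ?_, fun φ h1 h2 => ?_⟩
    · have h : θ ∈ Finset.univ.filter fun φ => mη φ = 1 := by rw [hset]; simp
      exact (Finset.mem_filter.mp h).2
    · have h : θ' ∈ Finset.univ.filter fun φ => mη φ = 1 := by rw [hset]; simp
      exact (Finset.mem_filter.mp h).2
    · by_contra h0
      have h3 : φ ∈ Finset.univ.filter fun φ => mη φ = 1 :=
        Finset.mem_filter.mpr ⟨Finset.mem_univ _, by have := hle φ; omega⟩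
      rw [hset] at h3
      simp [h1, h2] at h3
  have hcsum : coef θ + coef θ' = -2 * (δ : ℂ) := by
    have h := hdec η hηB
    rw [v4, Finset.sum_eq_add θ θ' hθθ' (fun φ _ hφ => by
      rw [hmη, hmrest φ hφ.1 hφ.2]; simp) (by simp) (by simp)] at h
    simp only [hmη, hmθ, hmθ', Nat.cast_one, map_one, one_mul, map_mul, map_neg, map_ofNat,
      map_intCast] at h
    exact h
  have hcθ : coef θ = -(δ : ℂ) ∧ coef θ' = -(δ : ℂ) := by
    rcases hcoef_cases θ with ⟨-, e⟩ | ⟨-, e⟩ | ⟨-, e⟩ | ⟨-, e⟩ | e <;>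
      rcases hcoef_cases θ' with ⟨-, e'⟩ | ⟨-, e'⟩ | ⟨-, e'⟩ | ⟨-, e'⟩ | e' <;>
        rw [e, e'] at hcsum ⊢ <;> rcases hδ with e1 | e1 <;> rcases hε with e2 | e2 <;>
          first
          | (exfalso; norm_num [e1, e2] at hcsum; done)
          | norm_num [e1, e2]
  have hψθ : ∀ φ : IrrCharacter H, coef φ = -(δ : ℂ) → ψ ≠ φ := by
    intro φ hφ e
    rw [← e, cψ] at hφ
    rcases hδ with e1 | e1 <;> simp [e1] at hφ <;> norm_num at hφ
  -- degrees
  have hdegle : ∀ φ : IrrCharacter H, mη φ = 1 →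
      charDegree (η : G → ℂ) ≤ 2 * charDegree (φ : H → ℂ) := by
    intro φ hφ
    have h1 := congrFun (CfsgLib.NormalRes.indFun_eq_sum (G := G) H φ) 1
    choose mf hmf using fun χ : IrrCharacter G => CfsgLib.NormalRes.mult_nat H (irr_isCharacter χ) φ
    rw [CfsgLib.Induction.indFun_one_apply, Finset.sum_apply, D.index] at h1
    simp only [Pi.smul_apply, smul_eq_mul, hmf, (degree_eq _).1] at h1
    have h2 : 2 * charDegree (φ : H → ℂ) = ∑ χ : IrrCharacter G, mf χ * charDegree (χ : G → ℂ) := by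
      exact_mod_cast h1
    rw [h2]
    have : mf η = 1 := by
      have e1 := hmη φ
      rw [hmf η, hφ] at e1
      exact_mod_cast e1
    refine le_trans (le_of_eq ?_) (Finset.single_le_sum (f := fun χ => mf χ * charDegree (χ : G → ℂ))
      (fun _ _ => Nat.zero_le _) (Finset.mem_univ η))
    simp [this]
  have hηdeg : charDegree (η : G → ℂ) = charDegree (θ : H → ℂ) + charDegree (θ' : H → ℂ) := by
    have h := CfsgLib.NormalRes.res_eq_sum H (irr_isClassFunction η) 1
    rw [Finset.sum_eq_add θ θ' hθθ' (fun φ _ hφ => by rw [hmη, hmrest φ hφ.1 hφ.2]; simp) (by simp)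
      (by simp)] at h
    simp only [OneMemClass.coe_one, hmη, hmθ, hmθ', Nat.cast_one, one_mul, (degree_eq η).1,
      (degree_eq θ).1, (degree_eq θ').1] at h
    exact_mod_cast h
  have hdd : charDegree (θ : H → ℂ) = charDegree (θ' : H → ℂ) := by
    have := hdegle θ hmθ
    have := hdegle θ' hmθ'
    omega
  have hψdeg : charDegree (ψ : H → ℂ) = x := rfl
  set w := charDegree (θ : H → ℂ) with hw
  have hwe : δ * (w : ℤ) = 2 * n + 1 := by
    have h1 : (1 : ℂ) + δ * x = δ * (2 * (w : ℂ)) := by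
      rw [← hx1]
      have := (degree_eq η).1
      rw [hη] at this
      rw [this] at hrel1
      rw [show charDegree (χ' j₀ : G → ℂ) = w + w by rw [← hη, hηdeg, ← hdd]] at hrel1
      push_cast at hrel1
      linear_combination hrel1
    have h2 : ((δ * (w : ℤ) * 2 : ℤ) : ℂ) = ((1 + δ * (x : ℤ) : ℤ) : ℂ) := by
      push_cast; linear_combination -h1
    have h3 : δ * (w : ℤ) * 2 = 1 + δ * (x : ℤ) := by exact_mod_cast h2
    omega
  -- the block of `H`
  have hBset : principalBlock M H = {φ : IrrCharacter H | (φ : H → ℂ) = (fun _ => 1) ∨ φ = ψ ∨ φ = θ ∨ φ = θ'} ∧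
      (ψ : H → ℂ) ≠ (fun _ => 1) ∧ (θ : H → ℂ) ≠ (fun _ => 1) ∧ (θ' : H → ℂ) ≠ (fun _ => 1) ∧
      (ψ : H → ℂ) zH = δ ∧ (θ : H → ℂ) zH = -(δ : ℂ) ∧ (θ' : H → ℂ) zH = -(δ : ℂ) := by
    have hpr : ∀ φ : IrrCharacter H, φ = principalIrr H ↔ (φ : H → ℂ) = fun _ => 1 :=
      fun φ => ⟨fun e => e ▸ rfl, fun e => Subtype.ext e⟩
    have hψ1 : ψ ≠ principalIrr H := fun e => by
      have h := congrArg (fun f : IrrCharacter H => (f : H → ℂ) 1) e
      change (a : G → ℂ) ((1 : H) : G) = 1 at h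
      rw [OneMemClass.coe_one, hx1] at h
      have : (x : ℤ) = 1 := by exact_mod_cast h
      rcases hδ with e1 | e1 <;> rw [e1, this] at he <;> omega
    have hθ1 : ∀ φ φ' : IrrCharacter H, φ ≠ φ' → mη φ = 1 → mη φ' = 1 → φ ≠ principalIrr H := by
      intro φ φ' hne hm hm' e
      subst e
      obtain ⟨g, hg⟩ := CfsgLib.NormalRes.exists_conj_of_constituents (N := H) η (θ := principalIrr H)
        (η := φ') (by rw [hmη, hm]; simp) (by rw [hmη, hm']; simp)
      exact hne (hg ▸ Subtype.ext (funext fun h => by simp [CfsgLib.BrauerPerm.twistIrr]))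
    have hθ1' := hθ1 θ θ' hθθ' hmθ hmθ'
    have hθ'1 := hθ1 θ' θ hθθ'.symm hmθ' hmθ
    have hval : ∀ φ : IrrCharacter H, φ ≠ principalIrr H → coef φ ≠ 0 →
        (φ = z2 ∨ φ = z3 ∨ φ = z4) ∧ (φ : H → ℂ) zH = coef φ := by
      intro φ h1 h0
      rcases hcoef_cases φ with ⟨e, -⟩ | ⟨e, e'⟩ | ⟨e, e'⟩ | ⟨e, e'⟩ | e'
      · exact absurd e h1
      · rw [e'] ; exact ⟨Or.inl e, e ▸ w2⟩
      · rw [e'] ; exact ⟨Or.inr (Or.inl e), e ▸ w3⟩
      · rw [e'] ; exact ⟨Or.inr (Or.inr e), e ▸ w4⟩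
      · exact absurd e' h0
    have hd0 : (δ : ℂ) ≠ 0 := by rcases hδ with e | e <;> simp [e]
    obtain ⟨a1, b1⟩ := hval ψ hψ1 (by rw [cψ]; exact hd0)
    obtain ⟨a2, b2⟩ := hval θ hθ1' (by rw [hcθ.1]; exact neg_ne_zero.mpr hd0)
    obtain ⟨a3, b3⟩ := hval θ' hθ'1 (by rw [hcθ.2]; exact neg_ne_zero.mpr hd0)
    refine ⟨?_, fun e => hψ1 ((hpr _).mpr e), fun e => hθ1' ((hpr _).mpr e),
      fun e => hθ'1 ((hpr _).mpr e), b1.trans cψ, b2.trans hcθ.1, b3.trans hcθ.2⟩
    have hne1 := hψθ θ hcθ.1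
    have hne2 := hψθ θ' hcθ.2
    have heq : ({ψ, θ, θ'} : Finset (IrrCharacter H)) = {z2, z3, z4} := by
      refine Finset.eq_of_subset_of_card_le ?_ ?_
      · intro φ hφ
        simp only [Finset.mem_insert, Finset.mem_singleton] at hφ ⊢
        rcases hφ with rfl | rfl | rfl
        exacts [a1, a2, a3]
      · rw [Finset.card_eq_three.mpr ⟨z2, z3, z4, z23, z24, z34, rfl⟩,
          Finset.card_eq_three.mpr ⟨ψ, θ, θ', hne1, hne2, hθθ', rfl⟩]
    rw [hBH]
    ext φ
    have := Finset.ext_iff.mp heq φ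
    simp only [Finset.mem_insert, Finset.mem_singleton] at this
    simp only [Set.mem_setOf_eq, this]
  obtain ⟨hBset, p1, p2, p3, q1, q2, q3⟩ := hBset
  have hord := CfsgLib.KleinOrder.order_formula Q hkl hone hM (J := zH)
    (show zH ∈ Q from show (zH : G) ∈ (P : Subgroup G) from pow_mem D.σP 2) hzHo (ε₁ := δ) (ε₂ := -δ)
    (ε₃ := -δ) hBset ⟨p1, p2, p3, hψθ θ hcθ.1, hψθ θ' hcθ.2, hθθ'⟩
    ⟨hδ, by omega, by omega⟩ ⟨q1, by rw [q2]; simp, by rw [q3]; simp⟩
  rw [hψdeg, ← hw, ← hdd, card_cent_inf] at hord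
  set cV := Nat.card (centralizer ({z, τ} : Set G) ⊓ H : Subgroup G) with hcV
  have hcQ : Nat.card (centralizer ((Q : Subgroup H) : Set H)) = cV := by
    refine Nat.card_congr ⟨fun g => ⟨((g : H) : G), ?_, (g : H).2⟩, fun g => ⟨⟨g, g.2.2⟩, ?_⟩,
      fun _ => rfl, fun _ => rfl⟩
    · show ((g : H) : G) ∈ centralizer ({z, τ} : Set G)
      rw [mem_centralizer_iff]
      rintro v (rfl | rfl)
      · exact congrArg Subtype.val (mem_centralizer_iff.mp g.2 zH (pow_mem D.σP 2))
      · exact congrArg Subtype.val (mem_centralizer_iff.mp g.2 τH D.τP)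
    · rw [mem_centralizer_iff]
      intro v hv'
      refine Subtype.ext ?_
      have h1 := (mem_centralizer_iff.mp g.2.1) z (by simp)
      have h2 := (mem_centralizer_iff.mp g.2.1) τ (by simp)
      push_cast
      rcases hVmem v hv' with e | e | e | e <;> rw [e]
      · simp
      · exact h1
      · exact h2
      · rw [mul_assoc, h2, ← mul_assoc, h1, mul_assoc]
  rw [hcQ] at hord
  change (Nat.card H : ℚ) = _ at hord
  rw [show ((zH : H) : G) = z from rfl, ← hcH] at hord
  have hfirst : (Nat.card H : ℤ) * n ^ 2 * (cV : ℤ) ^ 2 =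
      (4 * n + 1) * (2 * n + 1) * (cH : ℤ) ^ 3 := by
    have hnQ : (n : ℚ) ≠ 0 := Int.cast_ne_zero.mpr hn0
    have hcV0 : (cV : ℚ) ≠ 0 := Nat.cast_ne_zero.mpr Nat.card_pos.ne'
    have hn21 : (2 * (n : ℚ) + 1) ≠ 0 := by
      have : 2 * n + 1 ≠ 0 := by omega
      exact_mod_cast this
    have xe : (δ : ℚ) * x = 4 * n + 1 := by exact_mod_cast he
    have we : (δ : ℚ) * w = 2 * n + 1 := by exact_mod_cast hwe
    have sq : (δ : ℚ) * δ = 1 := by rcases hδ with e | e <;> simp [e]
    have hx' : (x : ℚ) = δ * (4 * n + 1) := by linear_combination -(x : ℚ) * sq + δ * xe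
    have hw' : (w : ℚ) = δ * (2 * n + 1) := by linear_combination -(w : ℚ) * sq + δ * we
    have : (Nat.card H : ℚ) * n ^ 2 * cV ^ 2 = (4 * n + 1) * (2 * n + 1) * (cH : ℚ) ^ 3 := by
      have hδQ : (δ : ℚ) ≠ 0 := left_ne_zero_of_mul (sq.trans_ne one_ne_zero)
      rw [hord, hx', hw']
      push_cast
      rw [show (δ : ℚ) * (4 * n + 1) + δ = δ * (2 * (2 * n + 1)) by ring,
        show (δ : ℚ) * (2 * n + 1) + -δ = δ * (2 * n) by ring]
      field_simp
      ring
    exact_mod_cast this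
  refine ⟨n, hn0, hfirst, hsecond, fun hneg => ?_⟩
  have hδ1 : δ = -1 ∧ w = 1 := by
    rw [hneg] at hwe
    rcases hδ with e | e <;> rw [e] at hwe ⊢ <;> omega
  obtain ⟨rfl, hw1⟩ := hδ1
  obtain ⟨f, hf⟩ := CfsgLib.LinearTwist.exists_hom_of_charDegree_one (irr_isCharacter θ) (hw ▸ hw1)
  refine ⟨f, fun e => p2 ?_, ?_⟩
  · funext g; rw [hf, e]; simp
  have hθB : θ ∈ principalBlock M H := by rw [hBset]; exact Or.inr (Or.inr (Or.inl rfl))
  have hval1 : ∀ g : H, 2 ∣ orderOf g → f g = 1 := by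
    intro g hg
    obtain ⟨t, u, rfl, ht, hu, hc⟩ := CfsgLib.Involutions.klein_even_decomp Q hkl hg
    have h1 := CfsgLib.Involutions.principalConstant H M hM t ht u
      (CfsgLib.Involutions.klein_odd_mem_core Q hkl ht hu hc) θ hθB
    rw [classFunction_eq_of_isConj (irr_isClassFunction θ) (hone t zH ht hzHo), q2, hf] at h1
    exact Units.ext (by simpa using h1)
  intro g hg
  by_cases hev : 2 ∣ orderOf g
  · exact hval1 g hev
  · have hc : Commute zH g := Subtype.ext hg.symm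
    have h2 : 2 ∣ orderOf (zH * g) := by
      rw [hc.orderOf_mul_eq_mul_orderOf_of_coprime (by
        rw [hzHo]; exact (Nat.Prime.coprime_iff_not_dvd Nat.prime_two).mpr hev), hzHo]
      exact dvd_mul_right _ _
    have := hval1 _ h2
    rwa [map_mul, hval1 zH (by rw [hzHo]), one_mul] at this

end CfsgLib.SmallCent31
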