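import Cfsg.Agent.Lib.SmallCent31.Chars

/-!
# The centralizer `K` of `A` and its extension `L` by the rotation
-/

set_option autoImplicit false
set_option linter.style.haveILetI false
set_option linter.unusedSectionVars false

namespace CfsgLib.SmallCent31

open Subgroup

universe u

variable {G : Type u} [Group G]

/-- The subgroup generated by the odd order elements of the centralizer of `v`. -/
def oddPart (v : G) : Subgroup G :=
  closure {g | g ∈ centralizer ({v} : Set G) ∧ Odd (orderOf g)}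

theorem mem_cent_conj {g c v : G} (hc : c ∈ centralizer ({v} : Set G)) :
    g * c * g⁻¹ ∈ centralizer ({g * v * g⁻¹} : Set G) := by
  rw [mem_centralizer_singleton_iff] at hc ⊢
  calc g * c * g⁻¹ * (g * v * g⁻¹) = g * (c * v) * g⁻¹ := by group
    _ = g * (v * c) * g⁻¹ := by rw [hc]
    _ = g * v * g⁻¹ * (g * c * g⁻¹) := by group

theorem oddPart_conj (g v : G) {c : G} (hc : c ∈ oddPart v) :
    g * c * g⁻¹ ∈ oddPart (g * v * g⁻¹) := by
  have : oddPart v ≤ (oddPart (g * v * g⁻¹)).comap (MulAut.conj g).toMonoidHom := by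
    rw [oddPart, closure_le]
    rintro x ⟨hx, hxo⟩
    exact subset_closure ⟨mem_cent_conj hx, by
      show Odd (orderOf (g * x * g⁻¹))
      rw [orderOf_conj31]; exact hxo⟩
  exact this hc

theorem card_cent_eq_of_isConj {x y : G} (h : IsConj x y) :
    Nat.card (centralizer ({x} : Set G)) = Nat.card (centralizer ({y} : Set G)) := by
  obtain ⟨g, rfl⟩ := isConj_iff.mp h
  refine Nat.card_congr
    { toFun := fun a => ⟨g * a * g⁻¹, mem_cent_conj a.2⟩
      invFun := fun a => ⟨g⁻¹ * a * g, ?_⟩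
      left_inv := fun a => Subtype.ext (by group)
      right_inv := fun a => Subtype.ext (by group) }
  have h1 := mem_cent_conj (g := g⁻¹) a.2
  rw [show g⁻¹ * (g * x * g⁻¹) * g⁻¹⁻¹ = x by group, inv_inv] at h1
  exact h1

namespace D8

variable (d : D8 G)

theorem oddPart_z : oddPart d.z = d.O := rfl

/-- The centralizer of `A`. -/
def K : Subgroup G := centralizer (d.A : Set G)

/-- The elements acting on `A` as the identity or as inversion. -/
def L : Subgroup G where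
  carrier := {g | (∀ a ∈ d.A, g * a * g⁻¹ = a) ∨ (∀ a ∈ d.A, g * a * g⁻¹ = a⁻¹)}
  one_mem' := Or.inl fun a _ => by simp
  mul_mem' := by
    intro g h hg hh
    have e : ∀ a : G, g * h * a * (g * h)⁻¹ = g * (h * a * h⁻¹) * g⁻¹ := fun a => by group
    rcases hg with hg | hg <;> rcases hh with hh | hh
    · exact Or.inl fun a ha => by rw [e, hh a ha, hg a ha]
    · exact Or.inr fun a ha => by rw [e, hh a ha, hg _ (inv_mem ha)]
    · exact Or.inr fun a ha => by rw [e, hh a ha, hg a ha]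
    · exact Or.inl fun a ha => by rw [e, hh a ha, hg _ (inv_mem ha), inv_inv]
  inv_mem' := by
    intro g hg
    have e : ∀ a b : G, g * b * g⁻¹ = a → g⁻¹ * a * g⁻¹⁻¹ = b := fun a b h => by rw [← h]; group
    rcases hg with hg | hg
    · exact Or.inl fun a ha => e a a (hg a ha)
    · exact Or.inr fun a ha => e a a⁻¹ (by rw [hg _ (inv_mem ha), inv_inv])

/-- The subgroup generated by the cores of the involution centralizers of `P`. -/
def W : Subgroup G := ⨆ v ∈ {v : G | v ∈ (d.P : Subgroup G) ∧ orderOf v = 2}, oddPart v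

theorem swap_W : d.swap.W = d.W := rfl

theorem mem_K {g : G} : g ∈ d.K ↔ ∀ a ∈ d.A, g * a = a * g := by
  rw [K, mem_centralizer_iff]
  exact ⟨fun h a ha => (h a ha).symm, fun h a ha => (h a ha).symm⟩

theorem mem_K' {g : G} : g ∈ d.K ↔ ∀ a ∈ d.A, g * a * g⁻¹ = a := by
  rw [d.mem_K]
  exact forall₂_congr fun a _ => mul_inv_eq_iff_eq_mul.symm

theorem K_le_L : d.K ≤ d.L := fun _ h => Or.inl (d.mem_K'.mp h)

variable [Finite G]

theorem O_le_K : d.O ≤ d.K := fun _ ho =>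
  d.mem_K.mpr fun _ ha => d.O_comm ho (d.A_le_O ha)

theorem V_le_K : d.V ≤ d.K := fun v hv => d.mem_K.mpr fun a ha => by
  have hz : a * d.z = d.z * a := mem_centralizer_singleton_iff.mp (d.O_le (d.A_le_O ha))
  have ht := (d.mem_A.mp ha).2
  rcases d.V_cases hv with rfl | rfl | rfl | rfl
  · simp
  · exact hz.symm
  · exact ht.symm
  · rw [mul_assoc, ← ht, ← mul_assoc, ← hz, mul_assoc]

theorem σ_mem_L : d.σ ∈ d.L := Or.inr fun _ ha => d.σ_inverts (d.A_le_O ha)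

theorem τ_mem_L : d.τ ∈ d.L := d.K_le_L (d.V_le_K d.τ_mem_V)

theorem P_le_L : (d.P : Subgroup G) ≤ d.L := by
  rw [← d.hgen, closure_le]
  rintro g (rfl | rfl)
  exacts [d.σ_mem_L, d.τ_mem_L]

theorem Cz_le_L : centralizer ({d.z} : Set G) ≤ d.L := fun c hc => by
  obtain ⟨o, ho, p, hp, rfl⟩ := d.decomp hc
  exact mul_mem (d.K_le_L (d.O_le_K ho)) (d.P_le_L hp)

variable (hA : 1 < Nat.card d.A)
include hA

theorem not_K_of_inverts {g : G} (h : ∀ a ∈ d.A, g * a * g⁻¹ = a⁻¹) : g ∉ d.K := by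
  intro hg
  obtain ⟨⟨a, ha⟩, hne⟩ : ∃ a : d.A, a ≠ 1 := by
    haveI : Nontrivial d.A := Finite.one_lt_card_iff_nontrivial.mp hA
    exact exists_ne 1
  exact hne (Subtype.ext (d.eq_one_of_sq (d.A_le_O ha) ((d.mem_K'.mp hg a ha).symm.trans (h a ha))))

theorem σ_not_K : d.σ ∉ d.K := d.not_K_of_inverts hA fun _ ha => d.σ_inverts (d.A_le_O ha)

theorem στ_not_K : d.σ * d.τ ∉ d.K := d.not_K_of_inverts hA fun _ ha => d.στ_inverts_A ha

theorem K_index_two : (d.K.subgroupOf d.L).index = 2 := by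
  rw [index_eq_two_iff]
  refine ⟨⟨d.σ, d.σ_mem_L⟩, fun b => ?_⟩
  simp only [mem_subgroupOf, coe_mul]
  rcases b.2 with h | h
  · refine Or.inr ⟨d.mem_K'.mpr h, fun hm => d.σ_not_K hA ?_⟩
    exact (mul_mem_cancel_left (d.mem_K'.mpr h)).mp hm
  · refine Or.inl ⟨d.mem_K'.mpr fun a ha => ?_, d.not_K_of_inverts hA h⟩
    calc (b : G) * d.σ * a * ((b : G) * d.σ)⁻¹ = (b : G) * (d.σ * a * d.σ⁻¹) * (b : G)⁻¹ := by group
      _ = a := by rw [d.σ_inverts (d.A_le_O ha), h _ (inv_mem ha), inv_inv]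

theorem odd_mem_K {g : G} (hg : g ∈ d.L) (ho : Odd (orderOf g)) : g ∈ d.K := by
  obtain ⟨n, hn⟩ := ho
  have h1 : g = (g ^ (n + 1)) ^ 2 := by
    rw [← pow_mul, show (n + 1) * 2 = orderOf g + 1 by omega, pow_succ, pow_orderOf_eq_one, one_mul]
  have h2 := Subgroup.mul_self_mem_of_index_two (d.K_index_two hA) (⟨g ^ (n + 1), pow_mem hg _⟩ : d.L)
  rw [h1, pow_two]
  exact h2

/-- An element of `K` permuting `z → τ → zτ` cyclically. -/
theorem exists_y : ∃ y ∈ d.K, y * d.z * y⁻¹ = d.τ ∧ y * d.τ * y⁻¹ = d.z * d.τ := by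
  obtain ⟨g, hg⟩ := isConj_iff.mp (d.hone d.τ d.z d.hτo d.zo)
  set u := g * d.z * g⁻¹ with hu
  have huo : orderOf u = 2 := by rw [hu, orderOf_conj31, d.zo]
  have hu2 : u * u = 1 := by rw [← pow_two, ← huo, pow_orderOf_eq_one]
  have huC : u ∈ centralizer ({d.z} : Set G) := by
    rw [← hg]
    exact mem_cent_conj (mem_centralizer_singleton_iff.mpr d.z_comm_τ)
  have huz : u ≠ d.z := fun e => d.z_ne_τ (mul_left_cancel (mul_right_cancel (e.trans hg.symm)))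
  obtain ⟨o, ho, p, hp, hop⟩ := d.decomp huC
  have hpC := d.P_le_Cz hp
  have h' : (o * (p * o * p⁻¹)) * (p * p) = 1 * 1 := by
    rw [mul_one, ← hu2, hop]; group
  obtain ⟨e1, e2⟩ := d.unique_OP (mul_mem ho (d.O_conj hpC ho)) (one_mem _) (mul_mem hp hp)
    (one_mem _) h'
  have hpinv : p * o * p⁻¹ = o⁻¹ := (inv_eq_of_mul_eq_one_right e1).symm
  obtain ⟨n, hn⟩ := d.O_odd
  set r := o ^ (n + 1) with hr
  have hro : r * r = o := by
    have := congrArg Subtype.val (pow_card_eq_one' (G := d.O) (x := ⟨o, ho⟩))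
    rw [hr, ← pow_add, show n + 1 + (n + 1) = Nat.card d.O + 1 by omega, pow_succ]
    rw [show o ^ Nat.card d.O = 1 from this, one_mul]
  have hpr : p * r * p⁻¹ = r⁻¹ := by rw [hr, ← conj_pow, hpinv, inv_pow]
  set g' := r⁻¹ * g with hg'
  have hτz : g' * d.τ * g'⁻¹ = d.z := by
    have h1 := mem_centralizer_singleton_iff.mp (d.O_le (pow_mem ho (n + 1)))
    rw [← hr] at h1
    calc g' * d.τ * g'⁻¹ = r⁻¹ * (g * d.τ * g⁻¹) * r := by rw [hg']; group
      _ = r⁻¹ * (d.z * r) := by rw [hg, mul_assoc]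
      _ = d.z := by rw [← h1]; group
  have hzp : g' * d.z * g'⁻¹ = p := by
    calc g' * d.z * g'⁻¹ = r⁻¹ * (g * d.z * g⁻¹) * r := by rw [hg']; group
      _ = r⁻¹ * ((r * r) * p) * r := by rw [← hu, hop, hro]
      _ = r * (p * r * p⁻¹) * p := by group
      _ = p := by rw [hpr]; group
  have hpo : orderOf p = 2 := by rw [← hzp, orderOf_conj31, d.zo]
  have hpz : p ≠ d.z := fun e => d.z_ne_τ (by
    rw [← hzp] at e
    exact mul_left_cancel (mul_right_cancel (e.trans hτz.symm)))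
  have hσp : d.σ * p * d.σ⁻¹ = d.z * p := by
    obtain ⟨k, hk, e | e⟩ := d.P_cases hp
    · exfalso
      interval_cases k
      · rw [e, pow_zero, orderOf_one] at hpo; norm_num at hpo
      · rw [e, pow_one, d.hσo] at hpo; norm_num at hpo
      · exact hpz e
      · rw [e, ← d.σinv, orderOf_inv, d.hσo] at hpo; norm_num at hpo
    · rw [e, d.σinv, z]
      calc d.σ * (d.σ ^ k * d.τ) * d.σ ^ 3 = d.σ * d.σ ^ k * (d.τ * d.σ ^ 3) := by group
        _ = d.σ * d.σ ^ k * d.σ ^ (3 * 3) * d.τ := by rw [d.τσpow]; group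
        _ = d.σ ^ (4 * 2 + (2 + k)) * d.τ := by rw [← pow_succ', ← pow_add]; congr 2; omega
        _ = _ := by rw [pow_add, pow_mul, d.σ4, one_pow, one_mul, pow_add, mul_assoc]
  set s := g'⁻¹ * d.σ * g' with hs
  have hsτ : s * d.τ * s⁻¹ = d.τ := by
    calc s * d.τ * s⁻¹ = g'⁻¹ * (d.σ * (g' * d.τ * g'⁻¹) * d.σ⁻¹) * g' := by rw [hs]; group
      _ = g'⁻¹ * (d.z * d.σ * d.σ⁻¹) * g' := by rw [hτz, d.z_comm_σ]
      _ = g'⁻¹ * (g' * d.τ * g'⁻¹) * g' := by rw [mul_inv_cancel_right, hτz]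
      _ = d.τ := by group
  have hsz : s * d.z * s⁻¹ = d.z * d.τ := by
    calc s * d.z * s⁻¹ = g'⁻¹ * (d.σ * (g' * d.z * g'⁻¹) * d.σ⁻¹) * g' := by rw [hs]; group
      _ = g'⁻¹ * ((g' * d.τ * g'⁻¹) * (g' * d.z * g'⁻¹)) * g' := by rw [hzp, hσp, hτz]
      _ = d.τ * d.z := by group
      _ = _ := d.z_comm_τ.symm
  have hsA : ∀ a ∈ d.A, s * a * s⁻¹ = a⁻¹ := by
    intro a ha
    have h1 : g' * a * g'⁻¹ ∈ d.O := by
      refine d.mem_O ?_ (by rw [orderOf_conj31]; exact d.odd_orderOf_mem (d.A_le_O ha))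
      rw [← hτz]
      exact mem_cent_conj (mem_centralizer_singleton_iff.mpr (d.mem_A.mp ha).2)
    calc s * a * s⁻¹ = g'⁻¹ * (d.σ * (g' * a * g'⁻¹) * d.σ⁻¹) * g' := by rw [hs]; group
      _ = a⁻¹ := by rw [d.σ_inverts h1]; group
  refine ⟨d.σ * s, d.mem_K'.mpr fun a ha => ?_, ?_, ?_⟩
  · calc d.σ * s * a * (d.σ * s)⁻¹ = d.σ * (s * a * s⁻¹) * d.σ⁻¹ := by group
      _ = a := by rw [hsA a ha, d.σ_inverts (inv_mem (d.A_le_O ha)), inv_inv]
  · calc d.σ * s * d.z * (d.σ * s)⁻¹ = d.σ * (s * d.z * s⁻¹) * d.σ⁻¹ := by group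
      _ = d.σ * d.z * d.τ * d.σ⁻¹ := by rw [hsz]; group
      _ = d.τ := by
        rw [z, ← pow_succ', d.σinv, mul_assoc, d.τσpow, ← mul_assoc, ← pow_add,
          show 2 + 1 + 3 * 3 = 4 * 3 from rfl, pow_mul, d.σ4, one_pow, one_mul]
  · calc d.σ * s * d.τ * (d.σ * s)⁻¹ = d.σ * (s * d.τ * s⁻¹) * d.σ⁻¹ := by group
      _ = d.σ * d.τ * d.σ⁻¹ := by rw [hsτ]
      _ = d.z * d.τ := by
        rw [d.σinv, mul_assoc, d.τσpow, ← mul_assoc, ← pow_succ',
          show 3 * 3 + 1 = 4 * 2 + 2 from rfl, pow_add, pow_mul, d.σ4, one_pow, one_mul, z]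

/-- An element of `K` normalizing the four group and fixing `z` centralizes it. -/
theorem mem_Czτ_of_normalizes {g : G} (hg : g ∈ d.K) (hz : g * d.z * g⁻¹ = d.z)
    (ht : g * d.τ * g⁻¹ ∈ d.V) : g ∈ centralizer ({d.z, d.τ} : Set G) := by
  obtain ⟨o, ho, p, hp, rfl⟩ :=
    d.decomp (mem_centralizer_singleton_iff.mpr (mul_inv_eq_iff_eq_mul.mp hz))
  have hpK : p ∈ d.K := (mul_mem_cancel_left (d.O_le_K ho)).mp hg
  have hpV : p ∈ d.V := by
    refine d.mem_V.mpr ⟨hp, ?_⟩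
    obtain ⟨k, hk, e | e⟩ := d.P_cases hp <;> interval_cases k
    · rw [e]; simp
    · rw [e, pow_one] at hpK; exact absurd hpK (d.σ_not_K hA)
    · rw [e]; exact d.z_comm_τ
    · rw [e, ← d.σinv] at hpK; exact absurd (inv_mem_iff.mp hpK) (d.σ_not_K hA)
    · rw [e]; simp
    · rw [e, pow_one] at hpK; exact absurd hpK (d.στ_not_K hA)
    · rw [e]; exact (Commute.mul_left (show Commute (d.σ ^ 2) d.τ from d.z_comm_τ)
        (Commute.refl d.τ)).eq
    · exfalso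
      apply d.στ_not_K hA
      have h1 : d.σ ^ 3 * d.τ ∈ d.K := e ▸ hpK
      have h2 : d.σ * d.τ = d.z * (d.σ ^ 3 * d.τ) := by
        rw [z, ← mul_assoc, ← pow_add, show 2 + 3 = 4 + 1 from rfl, pow_add, d.σ4, one_mul, pow_one]
      rw [h2]; exact mul_mem (d.V_le_K d.z_mem_V) h1
  have hpτ : p * d.τ = d.τ * p := (d.mem_V.mp hpV).2
  have hwO : o * (d.τ * o⁻¹ * d.τ⁻¹) ∈ d.O :=
    mul_mem ho (d.O_conj (d.P_le_Cz d.hτP) (inv_mem ho))
  have h1 : o * (d.τ * o⁻¹ * d.τ⁻¹) ∈ (d.P : Subgroup G) := by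
    have e : o * p * d.τ * (o * p)⁻¹ = o * (d.τ * o⁻¹ * d.τ⁻¹) * d.τ := by
      rw [mul_assoc o p, hpτ]; group
    rw [e] at ht
    exact (mul_mem_cancel_right d.hτP).mp (d.mem_V.mp ht).1
  have h2 := d.eq_one_of_mem_O_P hwO h1
  refine d.mem_Czτ.mpr ⟨o, d.mem_A.mpr ⟨ho, ?_⟩, p, hpV, rfl⟩
  have h3 : d.τ * o⁻¹ * d.τ⁻¹ = o⁻¹ := (inv_eq_of_mul_eq_one_right h2).symm
  calc o * d.τ = o * (d.τ * o⁻¹ * d.τ⁻¹) * (d.τ * o) := by group
    _ = d.τ * o := by rw [h3]; group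

end D8

end CfsgLib.SmallCent31
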