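import Cfsg.Agent.Lib.SmallCent31.SubLocal
import Cfsg.Agent.Lib.SmallCent31.SubChars
import Cfsg.Agent.Lib.Solvable.CoprimeGeneration
import Mathlib.GroupTheory.Transfer

/-!
# The equations for `C(A)` and, in the degenerate case, a normal subgroup of odd order of `L`
-/

set_option autoImplicit false
set_option linter.style.haveILetI false
set_option linter.unusedSectionVars false

noncomputable section

namespace CfsgLib.SmallCent31

open Subgroup

universe u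

variable {G : Type u} [Group G] [Finite G]

theorem eq_one_of_odd_of_sq {M : Type*} [Monoid M] {x : M} {n : ℕ} (hn : Odd n) (h : x ^ n = 1)
    (h2 : x ^ 2 = 1) : x = 1 := by
  rw [← orderOf_eq_one_iff]
  exact Nat.eq_one_of_dvd_coprimes (Nat.coprime_two_right.mpr hn) (orderOf_dvd_of_pow_eq_one h)
    (orderOf_dvd_of_pow_eq_one h2)

namespace D8

variable (d : D8 G)

include d in
theorem not_sixteen_dvd (H : Subgroup G) : ¬ 16 ∣ Nat.card H := by
  intro h
  haveI : Fact (Nat.Prime 2) := ⟨Nat.prime_two⟩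
  have h5 := d.P.pow_dvd_card_of_pow_dvd_card (n := 4) (h.trans (card_subgroup_dvd_card H))
  rw [d.P_card] at h5
  norm_num at h5

theorem Czτ_le_K : centralizer ({d.z, d.τ} : Set G) ≤ d.K := fun g hg => by
  obtain ⟨o, ho, p, hp, rfl⟩ := d.mem_Czτ.mp hg
  exact mul_mem (d.O_le_K (d.A_le_O ho)) (d.V_le_K hp)

variable (hA : 1 < Nat.card d.A)
include hA

theorem L_card : Nat.card d.L = 2 * Nat.card d.K := by
  have h := (d.K.subgroupOf d.L).card_mul_index
  rw [d.K_index_two hA, Nat.card_congr (subgroupOfEquivOfLe d.K_le_L).toEquiv] at h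
  omega

theorem K_conj {l g : G} (hl : l ∈ d.L) (hg : g ∈ d.K) : l * g * l⁻¹ ∈ d.K := by
  have hn : (d.K.subgroupOf d.L).Normal := normal_of_index_eq_two (d.K_index_two hA)
  exact hn.conj_mem ⟨g, d.K_le_L hg⟩ hg ⟨l, hl⟩

theorem z_fix_σ : d.σ * d.z * d.σ⁻¹ = d.z := by rw [← d.z_comm_σ, mul_inv_cancel_right]

theorem V_sylow (H : Subgroup G) (hV : d.V ≤ H) (hH : H ≤ d.K) :
    ∃ S : Sylow 2 H, (S : Subgroup H) = d.V.subgroupOf H := by
  haveI : Fact (Nat.Prime 2) := ⟨Nat.prime_two⟩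
  have h4 : Nat.card (d.V.subgroupOf H) = 4 := by
    rw [Nat.card_congr (subgroupOfEquivOfLe hV).toEquiv, d.card_V]
  have hp : IsPGroup 2 (d.V.subgroupOf H) := IsPGroup.of_card (n := 2) (by rw [h4]; rfl)
  refine ⟨hp.toSylow ?_, rfl⟩
  intro h2
  have h := (d.V.subgroupOf H).card_mul_index
  rw [h4] at h
  apply d.not_sixteen_dvd d.L
  rw [d.L_card hA]
  obtain ⟨k, hk⟩ := h2
  obtain ⟨j, hj⟩ := card_dvd_of_le hH
  rw [hk] at h
  exact ⟨k * j, by rw [hj, ← h]; ring⟩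

section Hom

variable (φ : d.K →* ℂˣ) (hφ : ∀ g : d.K, (g : G) * d.z = d.z * g → φ g = 1)
include hφ

theorem φ_O {o : G} (ho : o ∈ d.O) : φ ⟨o, d.O_le_K ho⟩ = 1 :=
  hφ _ (mem_centralizer_singleton_iff.mp (d.O_le ho))

theorem φ_V {v : G} (hv : v ∈ d.V) : φ ⟨v, d.V_le_K hv⟩ = 1 := by
  obtain ⟨y, hy, hy1, hy2⟩ := d.exists_y hA
  have hz : φ ⟨d.z, d.V_le_K d.z_mem_V⟩ = 1 := hφ _ rfl
  have ht : φ ⟨d.τ, d.V_le_K d.τ_mem_V⟩ = 1 := hφ _ d.z_comm_τ.symm
  rcases d.V_cases hv with rfl | rfl | rfl | rfl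
  · exact map_one φ
  · exact hz
  · exact ht
  · rw [show (⟨d.z * d.τ, d.V_le_K hv⟩ : d.K) =
      ⟨d.z, d.V_le_K d.z_mem_V⟩ * ⟨d.τ, d.V_le_K d.τ_mem_V⟩ from rfl, map_mul, hz, ht, one_mul]

/-- An element of `K` normalizing `V` moves `z` like a power of `y`. -/
theorem φ_normalizer {y : G} (hy : y ∈ d.K) (hy1 : y * d.z * y⁻¹ = d.τ)
    (hy2 : y * d.τ * y⁻¹ = d.z * d.τ) (m : d.K) (hm : ∀ v ∈ d.V, (m : G) * v * (m : G)⁻¹ ∈ d.V) :
    ((m : G) ∈ centralizer ({d.z, d.τ} : Set G)) ∨ φ m = φ ⟨y, hy⟩ ∨ φ m = (φ ⟨y, hy⟩)⁻¹ := by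
  have hy3 : y * (d.z * d.τ) * y⁻¹ = d.z := by
    calc y * (d.z * d.τ) * y⁻¹ = (y * d.z * y⁻¹) * (y * d.τ * y⁻¹) := by group
      _ = d.τ * d.z * d.τ := by rw [hy1, hy2, mul_assoc]
      _ = d.z := by rw [← d.z_comm_τ, mul_assoc, d.τsq, mul_one]
  rcases d.V_cases (hm d.z d.z_mem_V) with h | h | h | h
  · exact absurd (conj_eq_one_iff.mp h) d.z_ne
  · exact Or.inl (d.mem_Czτ_of_normalizes hA m.2 h (hm d.τ d.τ_mem_V))
  · refine Or.inr (Or.inl ?_)
    have h1 : φ (⟨y, hy⟩⁻¹ * m) = 1 := by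
      apply hφ
      show y⁻¹ * (m : G) * d.z = d.z * (y⁻¹ * m)
      apply mul_inv_eq_iff_eq_mul.mp
      calc y⁻¹ * (m : G) * d.z * (y⁻¹ * m)⁻¹ = y⁻¹ * ((m : G) * d.z * (m : G)⁻¹) * y := by group
        _ = d.z := by rw [h, ← hy1]; group
    rw [map_mul, map_inv, inv_mul_eq_one] at h1
    exact h1.symm
  · refine Or.inr (Or.inr ?_)
    have h1 : φ (⟨y, hy⟩ * m) = 1 := by
      apply hφ
      show y * (m : G) * d.z = d.z * (y * m)
      apply mul_inv_eq_iff_eq_mul.mp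
      calc y * (m : G) * d.z * (y * m)⁻¹ = y * ((m : G) * d.z * (m : G)⁻¹) * y⁻¹ := by group
        _ = d.z := by rw [h, hy3]
    rw [map_mul] at h1
    exact eq_inv_of_mul_eq_one_right h1

/-- A homomorphism killing `C_K(z)` is determined by its value on `y`. -/
theorem φ_trivial {y : G} (hy : y ∈ d.K) (hy1 : y * d.z * y⁻¹ = d.τ)
    (hy2 : y * d.τ * y⁻¹ = d.z * d.τ) (h1 : φ ⟨y, hy⟩ = 1) : φ = 1 := by
  haveI : Fact (Nat.Prime 2) := ⟨Nat.prime_two⟩
  obtain ⟨S, hS⟩ := d.V_sylow hA d.K d.V_le_K le_rfl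
  have hle : (S : Subgroup d.K) ≤ φ.ker := by
    rw [hS]
    intro v hv
    exact MonoidHom.mem_ker.mpr (d.φ_V hA φ hφ (v := (v : G)) hv)
  have hn : normalizer ((S : Subgroup d.K) : Set d.K) ≤ φ.ker := by
    intro m hm
    rw [MonoidHom.mem_ker]
    have hm' : ∀ v ∈ d.V, (m : G) * v * (m : G)⁻¹ ∈ d.V := by
      intro v hv
      have h := (mem_normalizer_iff.mp hm ⟨v, d.V_le_K hv⟩).mp (hS ▸ (hv : (⟨v, d.V_le_K hv⟩ : d.K) ∈ d.V.subgroupOf d.K))
      rw [hS] at h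
      exact h
    rcases d.φ_normalizer hA φ hφ hy hy1 hy2 m hm' with h | h | h
    · exact hφ m ((mem_centralizer_iff.mp h) d.z (by simp)).symm
    · rw [h, h1]
    · rw [h, h1, inv_one]
  have htop := Sylow.normalizer_sup_eq_top' S hle
  have hker : φ.ker = ⊤ := by
    rw [eq_top_iff, ← htop]
    exact sup_le hn le_rfl
  ext g
  exact Units.ext_iff.mp (MonoidHom.mem_ker.mp (hker ▸ mem_top g))

/-- A rotation inverts such a homomorphism. -/
theorem φ_inv (g : d.K) : φ ⟨d.σ * g * d.σ⁻¹, d.K_conj hA d.σ_mem_L g.2⟩ = (φ g)⁻¹ := by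
  obtain ⟨y, hy, hy1, hy2⟩ := d.exists_y hA
  let ψ : d.K →* ℂˣ :=
    { toFun := fun g => φ ⟨d.σ * g * d.σ⁻¹, d.K_conj hA d.σ_mem_L g.2⟩ * φ g
      map_one' := by
        rw [map_one, mul_one, ← map_one φ]
        exact congrArg φ (Subtype.ext (by simp))
      map_mul' := fun g h => by
        rw [map_mul φ g h, show (⟨d.σ * ((g * h : d.K) : G) * d.σ⁻¹,
            d.K_conj hA d.σ_mem_L (g * h).2⟩ : d.K) =
          ⟨d.σ * g * d.σ⁻¹, d.K_conj hA d.σ_mem_L g.2⟩ * ⟨d.σ * h * d.σ⁻¹, d.K_conj hA d.σ_mem_L h.2⟩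
          from Subtype.ext (by push_cast; group), map_mul, mul_mul_mul_comm] }
  have hψ : ∀ g : d.K, (g : G) * d.z = d.z * g → ψ g = 1 := by
    intro g hg
    show φ _ * φ g = 1
    rw [hφ g hg, mul_one]
    apply hφ
    show d.σ * g * d.σ⁻¹ * d.z = d.z * (d.σ * g * d.σ⁻¹)
    have h := mem_cent_conj (g := d.σ) (mem_centralizer_singleton_iff.mpr hg)
    rw [d.z_fix_σ hA] at h
    exact mem_centralizer_singleton_iff.mp h
  have hσz : d.σ⁻¹ * d.τ * d.σ = d.z * d.τ := by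
    rw [d.σinv, mul_assoc, d.τσ, ← mul_assoc, ← pow_add, show 3 + 3 = 4 + 2 from rfl, pow_add, d.σ4,
      one_mul, z]
  have h1 : ψ ⟨y, hy⟩ = 1 := by
    show φ _ * φ ⟨y, hy⟩ = 1
    rw [← map_mul]
    apply hφ
    show d.σ * y * d.σ⁻¹ * y * d.z = d.z * (d.σ * y * d.σ⁻¹ * y)
    apply mul_inv_eq_iff_eq_mul.mp
    have hy3 : y * (d.z * d.τ) * y⁻¹ = d.z := by
      calc y * (d.z * d.τ) * y⁻¹ = (y * d.z * y⁻¹) * (y * d.τ * y⁻¹) := by group
        _ = d.τ * d.z * d.τ := by rw [hy1, hy2, mul_assoc]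
        _ = d.z := by rw [← d.z_comm_τ, mul_assoc, d.τsq, mul_one]
    calc d.σ * y * d.σ⁻¹ * y * d.z * (d.σ * y * d.σ⁻¹ * y)⁻¹
        = d.σ * (y * (d.σ⁻¹ * (y * d.z * y⁻¹) * d.σ) * y⁻¹) * d.σ⁻¹ := by group
      _ = d.z := by rw [hy1, hσz, hy3, d.z_fix_σ hA]
  have h2 := d.φ_trivial hA ψ hψ hy hy1 hy2 h1
  exact eq_inv_of_mul_eq_one_left (DFunLike.congr_fun h2 g)

theorem φ_L {l : G} (hl : l ∈ d.L) (g : d.K) (hg : φ g = 1) :
    φ ⟨l * g * l⁻¹, d.K_conj hA hl g.2⟩ = 1 := by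
  have hin : ∀ (k : G) (hk : k ∈ d.K) (h : d.K), φ ⟨k * h * k⁻¹, d.K_conj hA (d.K_le_L hk) h.2⟩ = φ h := by
    intro k hk h
    rw [show (⟨k * h * k⁻¹, d.K_conj hA (d.K_le_L hk) h.2⟩ : d.K) = ⟨k, hk⟩ * h * ⟨k, hk⟩⁻¹ from
      Subtype.ext rfl, map_mul, map_mul, map_inv, mul_comm (φ _) (φ h), mul_inv_cancel_right]
  by_cases hK : l ∈ d.K
  · rw [hin l hK g, hg]
  · have hk : l * d.σ⁻¹ ∈ d.K := by
      have := (Subgroup.mul_mem_iff_of_index_two (d.K_index_two hA) (a := ⟨l, hl⟩)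
        (b := (⟨d.σ, d.σ_mem_L⟩ : d.L)⁻¹)).mpr
        (iff_of_false hK (fun h => d.σ_not_K hA (inv_mem_iff.mp h)))
      exact this
    have := hin _ hk ⟨d.σ * g * d.σ⁻¹, d.K_conj hA d.σ_mem_L g.2⟩
    rw [d.φ_inv hA φ hφ, hg, inv_one] at this
    rw [← this]
    exact congrArg φ (Subtype.ext (by push_cast; group))

/-- Elements of odd order centralizing an involution of `P` lie in the kernel. -/
theorem φ_oddPart (hidx : ∀ g : G, g * (d.σ * d.τ) = d.σ * d.τ * g → Odd (orderOf g) → g ∈ d.L)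
    {v g : G} (hv : v ∈ (d.P : Subgroup G)) (hvo : orderOf v = 2)
    (hg : g * v = v * g) (ho : Odd (orderOf g)) : ∃ h : g ∈ d.K, φ ⟨g, h⟩ = 1 := by
  obtain ⟨y, hy, hy1, hy2⟩ := d.exists_y hA
  have move : ∀ k ∈ d.L, (∃ h : k⁻¹ * g * k ∈ d.K, φ ⟨k⁻¹ * g * k, h⟩ = 1) →
      ∃ h : g ∈ d.K, φ ⟨g, h⟩ = 1 := by
    rintro k hk ⟨h, h1⟩
    have e : k * (k⁻¹ * g * k) * k⁻¹ = g := by group
    refine ⟨e ▸ d.K_conj hA hk h, ?_⟩
    have := d.φ_L hA φ hφ hk ⟨_, h⟩ h1
    simp only [e] at this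
    exact this
  have base : ∀ k ∈ d.K, k * d.z * k⁻¹ = v → ∃ h : g ∈ d.K, φ ⟨g, h⟩ = 1 := by
    intro k hk hkv
    refine move k (d.K_le_L hk) ?_
    have h1 : k⁻¹ * g * k ∈ d.O := by
      refine d.mem_O ?_ ?_
      · have h := mem_cent_conj (g := k⁻¹) (mem_centralizer_singleton_iff.mpr hg)
        rw [← hkv, inv_inv, show k⁻¹ * (k * d.z * k⁻¹) * k = d.z by group] at h
        exact h
      · have := orderOf_conj31 k⁻¹ g
        rw [inv_inv] at this
        rw [this]; exact ho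
    exact ⟨d.O_le_K h1, d.φ_O hA φ hφ h1⟩
  -- the reflection `στ`
  have refl : ∀ g' : G, g' * (d.σ * d.τ) = d.σ * d.τ * g' → Odd (orderOf g') →
      ∃ h : g' ∈ d.K, φ ⟨g', h⟩ = 1 := by
    intro g' hg' ho'
    have hK := d.odd_mem_K hA (hidx g' hg' ho') ho'
    refine ⟨hK, ?_⟩
    have hτ : φ ⟨d.τ * g' * d.τ⁻¹, d.K_conj hA d.τ_mem_L hK⟩ = φ ⟨g', hK⟩ := by
      rw [show (⟨d.τ * g' * d.τ⁻¹, d.K_conj hA d.τ_mem_L hK⟩ : d.K) =
        ⟨d.τ, d.V_le_K d.τ_mem_V⟩ * ⟨g', hK⟩ * ⟨d.τ, d.V_le_K d.τ_mem_V⟩⁻¹ from Subtype.ext rfl,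
        map_mul, map_mul, map_inv, mul_comm (φ _) (φ ⟨g', hK⟩), mul_inv_cancel_right]
    have h1 := d.φ_inv hA φ hφ ⟨d.τ * g' * d.τ⁻¹, d.K_conj hA d.τ_mem_L hK⟩
    rw [hτ] at h1
    have e : d.σ * (d.τ * g' * d.τ⁻¹) * d.σ⁻¹ = g' := by
      calc d.σ * (d.τ * g' * d.τ⁻¹) * d.σ⁻¹ = (d.σ * d.τ) * g' * (d.σ * d.τ)⁻¹ := by group
        _ = g' := by rw [← hg', mul_inv_cancel_right]
    simp only [e] at h1
    refine eq_one_of_odd_of_sq ho' ?_ (by rw [pow_two]; exact mul_eq_one_iff_eq_inv.mpr h1)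
    rw [← map_pow, ← map_one φ]
    exact congrArg φ (Subtype.ext (by push_cast; exact pow_orderOf_eq_one g'))
  by_cases hvK : v ∈ d.K
  · have hvV : v ∈ d.V := by
      refine d.mem_V.mpr ⟨hv, ?_⟩
      obtain ⟨k, hk, e | e⟩ := d.P_cases hv <;> interval_cases k
      · rw [e]; simp
      · rw [e, pow_one] at hvK; exact absurd hvK (d.σ_not_K hA)
      · rw [e]; exact d.z_comm_τ
      · rw [e, ← d.σinv] at hvK; exact absurd (inv_mem_iff.mp hvK) (d.σ_not_K hA)
      · rw [e]; simp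
      · rw [e, pow_one] at hvK; exact absurd hvK (d.στ_not_K hA)
      · rw [e]; exact (Commute.mul_left (show Commute (d.σ ^ 2) d.τ from d.z_comm_τ)
          (Commute.refl d.τ)).eq
      · rw [e, pow_succ, mul_assoc, ← z] at hvK
        exact absurd ((mul_mem_cancel_left (d.V_le_K d.z_mem_V)).mp hvK) (d.στ_not_K hA)
    rcases d.V_cases hvV with rfl | rfl | rfl | rfl
    · rw [orderOf_one] at hvo; norm_num at hvo
    · exact base 1 (one_mem _) (by group)
    · exact base y hy hy1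
    · refine base (y * y) (mul_mem hy hy) ?_
      calc y * y * d.z * (y * y)⁻¹ = y * (y * d.z * y⁻¹) * y⁻¹ := by group
        _ = _ := by rw [hy1, hy2]
  · obtain ⟨k, hk, e | e⟩ := d.P_cases hv <;> interval_cases k
    · rw [e, pow_zero, orderOf_one] at hvo; norm_num at hvo
    · rw [e, pow_one, d.hσo] at hvo; norm_num at hvo
    · exact absurd (e ▸ d.V_le_K d.z_mem_V) hvK
    · rw [e, ← d.σinv, orderOf_inv, d.hσo] at hvo; norm_num at hvo
    · exact absurd (by rw [e, pow_zero, one_mul]; exact d.V_le_K d.τ_mem_V) hvK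
    · rw [e, pow_one] at hg; exact refl g hg ho
    · exact absurd (e ▸ d.V_le_K (mul_mem d.z_mem_V d.τ_mem_V)) hvK
    · refine move d.σ d.σ_mem_L (refl _ ?_ ?_)
      · have h := mem_cent_conj (g := d.σ⁻¹) (mem_centralizer_singleton_iff.mpr hg)
        have e2 : d.σ⁻¹ * (d.σ ^ 3 * d.τ) * d.σ⁻¹⁻¹ = d.σ * d.τ := by
          rw [inv_inv, mul_assoc, mul_assoc, d.τσ, d.σinv, ← mul_assoc, ← mul_assoc, ← pow_add,
            ← pow_add, show 3 + 3 + 3 = 4 * 2 + 1 from rfl, pow_add, pow_mul, d.σ4, one_pow, one_mul,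
            pow_one]
        rw [e, e2, inv_inv] at h
        exact mem_centralizer_singleton_iff.mp h
      · have := orderOf_conj31 d.σ⁻¹ g
        rw [inv_inv] at this
        rw [this]; exact ho

/-- A nontrivial such homomorphism: `L` normalizes `W`, which has odd order. -/
theorem W_spec (hne : φ ≠ 1)
    (hidx : ∀ g : G, g * (d.σ * d.τ) = d.σ * d.τ * g → Odd (orderOf g) → g ∈ d.L) :
    d.L ≤ normalizer (d.W : Set G) ∧ Odd (Nat.card d.W) := by
  haveI : Fact (Nat.Prime 2) := ⟨Nat.prime_two⟩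
  obtain ⟨y, hy, hy1, hy2⟩ := d.exists_y hA
  set N1 : Subgroup G := φ.ker.map d.K.subtype with hN1
  have hN1K : N1 ≤ d.K := map_subtype_le _
  have hmem : ∀ g : G, g ∈ N1 ↔ ∃ h : g ∈ d.K, φ ⟨g, h⟩ = 1 := by
    intro g
    constructor
    · rintro ⟨x, hx, rfl⟩; exact ⟨x.2, hx⟩
    · rintro ⟨h, h1⟩; exact ⟨⟨g, h⟩, h1, rfl⟩
  have hVN : d.V ≤ N1 := fun v hv => (hmem v).mpr ⟨d.V_le_K hv, d.φ_V hA φ hφ hv⟩
  obtain ⟨S, hS⟩ := d.V_sylow hA N1 hVN hN1K
  have hSc : normalizer ((S : Subgroup N1) : Set N1) ≤ centralizer ((S : Subgroup N1) : Set N1) := by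
    intro m hm
    have hm' : ∀ v ∈ d.V, (m : G) * v * (m : G)⁻¹ ∈ d.V := by
      intro v hv
      have h := (mem_normalizer_iff.mp hm ⟨v, hVN hv⟩).mp (hS ▸ (hv : (⟨v, hVN hv⟩ : N1) ∈ d.V.subgroupOf N1))
      rw [hS] at h
      exact h
    obtain ⟨hmK, hm1⟩ := (hmem m).mp m.2
    rcases d.φ_normalizer hA φ hφ hy hy1 hy2 ⟨m, hmK⟩ hm' with h | h | h
    · rw [mem_centralizer_iff]
      intro s hs
      rw [hS] at hs
      refine Subtype.ext ?_
      have h1 := mem_centralizer_iff.mp h d.z (by simp)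
      have h2 := mem_centralizer_iff.mp h d.τ (by simp)
      push_cast
      rcases d.V_cases (show (s : G) ∈ d.V from hs) with e | e | e | e <;> rw [e]
      · simp
      · exact h1
      · exact h2
      · show d.z * d.τ * (m : G) = (m : G) * (d.z * d.τ)
        rw [mul_assoc, h2, ← mul_assoc, h1, mul_assoc]
    · exact absurd (d.φ_trivial hA φ hφ hy hy1 hy2 (h.symm.trans hm1)) hne
    · exact absurd (d.φ_trivial hA φ hφ hy hy1 hy2 (inv_eq_one.mp (h.symm.trans hm1))) hne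
  set M0 := (MonoidHom.transferSylow S hSc).ker with hM0
  have hcompl := MonoidHom.ker_transferSylow_isComplement' S hSc
  set M : Subgroup G := M0.map N1.subtype with hM
  have hM0odd : Odd (Nat.card M0) := by
    rw [Nat.odd_iff, ← Nat.two_dvd_ne_zero, ← hcompl.index_eq_card]
    exact S.not_dvd_index
  have hMN : M ≤ N1 := map_subtype_le _
  have hModd : Odd (Nat.card M) := by
    rw [hM, card_map_of_injective N1.subtype_injective]; exact hM0odd
  have hMmem : ∀ g : G, g ∈ N1 → Odd (orderOf g) → g ∈ M := by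
    intro g hg ho
    refine ⟨⟨g, hg⟩, ?_, rfl⟩
    rw [SetLike.mem_coe, MonoidHom.mem_ker]
    obtain ⟨i, hi⟩ := S.isPGroup' (MonoidHom.transferSylow S hSc ⟨g, hg⟩)
    rw [← orderOf_eq_one_iff]
    refine Nat.eq_one_of_dvd_coprimes
      (Nat.Coprime.pow_right i (Nat.coprime_two_right.mpr ho)) ?_ (orderOf_dvd_of_pow_eq_one hi)
    have h := orderOf_map_dvd (MonoidHom.transferSylow S hSc) (⟨g, hg⟩ : N1)
    exact h.trans (dvd_of_eq (orderOf_coe (⟨g, hg⟩ : N1)).symm)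
  have hWM : d.W ≤ M := by
    refine iSup₂_le fun v hv => (closure_le _).mpr fun g hg => ?_
    exact hMmem g ((hmem g).mpr (d.φ_oddPart hA φ hφ hidx hv.1 hv.2
      (mem_centralizer_singleton_iff.mp hg.1) hg.2)) hg.2
  have hLM : d.L ≤ normalizer (M : Set G) := by
    have hconj : ∀ l ∈ d.L, ∀ g ∈ M, l * g * l⁻¹ ∈ M := by
      intro l hl g hg
      obtain ⟨hK, h1⟩ := (hmem g).mp (hMN hg)
      refine hMmem _ ((hmem _).mpr ⟨d.K_conj hA hl hK, d.φ_L hA φ hφ hl ⟨g, hK⟩ h1⟩) ?_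
      rw [orderOf_conj31]
      exact Odd.of_dvd_nat hModd (M.orderOf_dvd_natCard hg)
    intro l hl
    rw [mem_normalizer_iff]
    refine fun g => ⟨hconj l hl g, fun h => ?_⟩
    have := hconj l⁻¹ (inv_mem hl) _ h
    rwa [show l⁻¹ * (l * g * l⁻¹) * l⁻¹⁻¹ = g by group] at this
  have hMW : M ≤ d.W := by
    haveI : IsMulCommutative d.V := ⟨⟨fun p q => Subtype.ext (by
      have h1 := mem_centralizer_iff.mp ((d.mem_Czτ).mpr ⟨1, one_mem _, p, p.2, (one_mul _).symm⟩)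
      have hz := h1 d.z (by simp)
      have ht := h1 d.τ (by simp)
      push_cast
      rcases d.V_cases q.2 with e | e | e | e <;> rw [e]
      · simp
      · exact hz.symm
      · exact ht.symm
      · rw [← mul_assoc, ← hz, mul_assoc, ← ht, ← mul_assoc])⟩⟩
    have hnc : ¬ IsCyclic d.V := by
      intro hc
      obtain ⟨x, hx⟩ := hc.exists_ofOrder_eq_natCard
      rw [d.card_V] at hx
      have hsq : (x : G) ^ 2 = 1 := by
        have hz : d.z * d.z = 1 := d.zsq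
        rcases d.V_cases x.2 with e | e | e | e <;> rw [e, pow_two]
        · simp
        · exact hz
        · exact d.τsq
        · rw [mul_assoc, ← mul_assoc d.τ, ← d.z_comm_τ, mul_assoc, d.τsq, mul_one, hz]
      have := orderOf_dvd_of_pow_eq_one hsq
      rw [orderOf_coe, hx] at this
      norm_num at this
    have hcop : (Nat.card d.V).Coprime (Nat.card M) := by
      rw [d.card_V]
      exact Nat.Coprime.pow_left 2 (Nat.coprime_two_left.mpr hModd)
    have hgen := CfsgLib.CoprimeGeneration.iSup_centralizer_eq d.V M hnc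
      ((d.V_le_K.trans d.K_le_L).trans hLM) hcop
    rw [← hgen]
    refine iSup₂_le fun v hv g hg => ?_
    have hvo : orderOf v = 2 := by
      rcases d.V_cases hv.1 with rfl | rfl | rfl | rfl
      · exact absurd rfl hv.2
      · exact d.zo
      · exact d.hτo
      · refine orderOf_eq_prime ?_ hv.2
        rw [pow_two, mul_assoc, ← mul_assoc d.τ, ← d.z_comm_τ, mul_assoc, d.τsq, mul_one, d.zsq]
    exact le_iSup₂_of_le (f := fun v (_ : v ∈ {v : G | v ∈ (d.P : Subgroup G) ∧ orderOf v = 2}) =>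
      oddPart v) v ⟨(d.mem_V.mp hv.1).1, hvo⟩ le_rfl
      (subset_closure ⟨hg.2, Odd.of_dvd_nat hModd (M.orderOf_dvd_natCard hg.1)⟩)
  rw [le_antisymm hWM hMW]
  exact ⟨hLM, hModd⟩

end Hom

/-- The subgroup `K` inside `L` satisfies the hypotheses of the character computation. -/
theorem idxTwo : IdxTwo (d.K.subgroupOf d.L) (d.P.subtype d.P_le_L)
    ⟨d.σ, d.σ_mem_L⟩ ⟨d.τ, d.τ_mem_L⟩ := by
  obtain ⟨y, hy, hy1, hy2⟩ := d.exists_y hA
  refine
    { index := d.K_index_two hA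
      iso := ?_
      σP := d.hσP
      τP := d.hτP
      σo := by rw [← orderOf_coe]; exact d.hσo
      τo := by rw [← orderOf_coe]; exact d.hτo
      rel := Subtype.ext d.hrel
      cases := ?_
      σH := d.σ_not_K hA
      τH := d.V_le_K d.τ_mem_V
      cent := ?_
      fuse := ⟨⟨y, d.K_le_L hy⟩, hy, Subtype.ext hy1, Subtype.ext hy2⟩
      core := ?_ }
  · obtain ⟨e⟩ := d.hiso
    exact ⟨(subgroupOfEquivOfLe d.P_le_L).trans e⟩
  · intro p hp
    obtain ⟨k, hk, e | e⟩ := d.P_cases (show (p : G) ∈ (d.P : Subgroup G) from hp)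
    · exact ⟨k, hk, Or.inl (Subtype.ext (by push_cast; exact e))⟩
    · exact ⟨k, hk, Or.inr (Subtype.ext (by push_cast; exact e))⟩
  · rw [card_cent_inf, show ((⟨d.σ, d.σ_mem_L⟩ : d.L) : G) = d.σ from rfl, d.hC,
      inf_eq_left.mpr (zpowers_le.mpr d.σ_mem_L), Nat.card_zpowers, d.hσo]
  · intro u hu hodd
    have hu' : (u : G) * d.z = d.z * u := by simpa [z] using congrArg Subtype.val hu
    have huO : (u : G) ∈ d.O :=
      d.mem_O (mem_centralizer_singleton_iff.mpr hu') (by rwa [orderOf_coe])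
    set C := centralizer ({(⟨d.σ, d.σ_mem_L⟩ : d.L) ^ 2} : Set d.L) with hC
    refine ⟨⟨u, mem_centralizer_singleton_iff.mpr hu⟩, ?_, rfl⟩
    let N : Subgroup C := d.O.comap (d.L.subtype.comp C.subtype)
    have hN : N.Normal := ⟨fun x hx c => by
      have hc : ((c : d.L) : G) ∈ centralizer ({d.z} : Set G) := mem_centralizer_singleton_iff.mpr
        (by simpa [z] using congrArg Subtype.val (mem_centralizer_singleton_iff.mp c.2))
      exact d.O_conj hc hx⟩
    have hcop : (Nat.card N).Coprime 2 := by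
      refine Nat.coprime_two_right.mpr (Odd.of_dvd_nat d.O_odd ?_)
      rw [← card_map_of_injective (f := d.L.subtype.comp C.subtype)
        (d.L.subtype_injective.comp C.subtype_injective)]
      exact card_dvd_of_le (map_comap_le _ _)
    exact le_sSup (show N ∈ {N : Subgroup C | N.Normal ∧ (Nat.card N).Coprime 2} from ⟨hN, hcop⟩) huO

/-- The equations for `K`, and the degenerate case. -/
theorem sub_eqs : ∃ n X : ℤ, n ≠ 0 ∧ X ∣ (Nat.card d.A * Nat.card d.B : ℕ) ∧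
    X * n = (Nat.card d.B : ℤ) ^ 2 * (2 * n + 1) ∧
    (Nat.card d.K : ℤ) * n ^ 2 =
      4 * Nat.card d.A * (Nat.card d.B : ℤ) ^ 3 * (4 * n + 1) * (2 * n + 1) ∧
    (n = -1 → Nat.card d.A = Nat.card d.B →
      d.L ≤ normalizer (d.W : Set G) ∧ Odd (Nat.card d.W)) := by
  obtain ⟨n, hn, h1, h2, h3⟩ := (d.idxTwo hA).eqs
  have hKc : Nat.card (d.K.subgroupOf d.L) = Nat.card d.K :=
    Nat.card_congr (subgroupOfEquivOfLe d.K_le_L).toEquiv
  have hcz : Nat.card (centralizer ({(⟨d.σ, d.σ_mem_L⟩ : d.L) ^ 2} : Set d.L) ⊓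
      d.K.subgroupOf d.L : Subgroup d.L) = 4 * (Nat.card d.A * Nat.card d.B) := by
    have h := card_inf_index_two (d.K_index_two hA)
      (C := centralizer ({(⟨d.σ, d.σ_mem_L⟩ : d.L) ^ 2} : Set d.L))
      (mem_centralizer_singleton_iff.mpr ((Commute.refl _).pow_right 2).eq)
      (c := ⟨d.σ, d.σ_mem_L⟩) (d.σ_not_K hA)
    have e : Nat.card (centralizer ({(⟨d.σ, d.σ_mem_L⟩ : d.L) ^ 2} : Set d.L)) =
        Nat.card (centralizer ({d.z} : Set G)) := by
      rw [card_cent_inf, show (((⟨d.σ, d.σ_mem_L⟩ : d.L) ^ 2 : d.L) : G) = d.z from rfl,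
        inf_eq_left.mpr d.Cz_le_L]
    rw [e, d.card_Cz] at h
    omega
  have hczt : Nat.card (centralizer
      ({(⟨d.σ, d.σ_mem_L⟩ : d.L) ^ 2, ⟨d.τ, d.τ_mem_L⟩} : Set d.L) ⊓ d.K.subgroupOf d.L :
        Subgroup d.L) = 4 * Nat.card d.A := by
    rw [← d.card_Czτ]
    refine Nat.card_congr
      { toFun := fun g => ⟨((g : d.L) : G), ?_⟩
        invFun := fun g => ⟨⟨g, d.K_le_L (d.Czτ_le_K g.2)⟩, ?_, d.Czτ_le_K g.2⟩
        left_inv := fun _ => rfl
        right_inv := fun _ => rfl }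
    · rw [mem_centralizer_iff]
      rintro x (rfl | rfl)
      · exact congrArg Subtype.val (mem_centralizer_iff.mp g.2.1 _ (Set.mem_insert _ _))
      · exact congrArg Subtype.val
          (mem_centralizer_iff.mp g.2.1 _ (Set.mem_insert_of_mem _ rfl))
    · show (⟨(g : G), _⟩ : d.L) ∈ centralizer _
      rw [mem_centralizer_iff]
      rintro x (rfl | rfl)
      · exact Subtype.ext (mem_centralizer_iff.mp g.2 d.z (by simp))
      · exact Subtype.ext (mem_centralizer_iff.mp g.2 d.τ (by simp))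
  -- the centralizer of `στ` in `L`
  set st : d.L := ⟨d.σ, d.σ_mem_L⟩ * ⟨d.τ, d.τ_mem_L⟩ with hst
  set Cs := centralizer ({d.σ * d.τ} : Set G) with hCs
  have hstc : Nat.card (centralizer ({st} : Set d.L)) = Nat.card (Cs ⊓ d.L : Subgroup G) :=
    card_cent_inf st
  have hC8 : Nat.card Cs = 8 * (Nat.card d.A * Nat.card d.B) := by
    rw [← d.card_Cz]; exact card_cent_eq_of_isConj (d.hone _ _ d.στo d.zo)
  have hfour : 4 ∣ Nat.card (Cs ⊓ d.L : Subgroup G) := by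
    have hle : centralizer ({d.z, d.σ * d.τ} : Set G) ≤ Cs ⊓ d.L :=
      le_inf (centralizer_le (by simp)) ((centralizer_le (by simp)).trans d.Cz_le_L)
    refine Dvd.dvd.trans ?_ (card_dvd_of_le hle)
    rw [d.card_Czστ]
    exact dvd_mul_right _ _
  obtain ⟨X, hX⟩ := hfour
  have hXdvd : X ∣ 2 * (Nat.card d.A * Nat.card d.B) := by
    have h := card_dvd_of_le (show Cs ⊓ d.L ≤ Cs from inf_le_left)
    rw [hX, hC8, show 8 * (Nat.card d.A * Nat.card d.B) = 4 * (2 * (Nat.card d.A * Nat.card d.B)) by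
      ring] at h
    exact (mul_dvd_mul_iff_left four_ne_zero).mp h
  have hXodd : Odd X := by
    rw [← Nat.not_even_iff_odd, even_iff_two_dvd]
    intro h2
    haveI : Fact (Nat.Prime 2) := ⟨Nat.prime_two⟩
    obtain ⟨T, hT⟩ := Sylow.exists_subgroup_card_pow_prime 2 (n := 3)
      (G := centralizer ({st} : Set d.L))
      (by rw [hstc, hX, show 2 ^ 3 = 4 * 2 from rfl]; exact mul_dvd_mul_left 4 h2)
    set T' : Subgroup d.L := T.map (centralizer ({st} : Set d.L)).subtype with hT'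
    have hT'c : Nat.card T' = 8 := by
      rw [hT', card_map_of_injective (centralizer ({st} : Set d.L)).subtype_injective, hT]; rfl
    obtain ⟨R, hR⟩ := (IsPGroup.of_card (p := 2) (n := 3)
      (show Nat.card T' = 2 ^ 3 by rw [hT'c]; rfl)).exists_le_sylow
    have hRT : (R : Subgroup d.L) = T' := by
      refine (eq_of_le_of_card_ge hR ?_).symm
      obtain ⟨k, hk⟩ := IsPGroup.iff_card.mp R.isPGroup'
      rw [hT'c, hk]
      have h16 : ¬ 16 ∣ Nat.card d.L := d.not_sixteen_dvd d.L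
      have : k < 4 := by
        by_contra hk4
        exact h16 (((pow_dvd_pow 2 (show 4 ≤ k by omega))).trans
          (hk ▸ card_subgroup_dvd_card (R : Subgroup d.L)))
      calc 2 ^ k ≤ 2 ^ 3 := Nat.pow_le_pow_right two_pos (by omega)
        _ = 8 := rfl
    obtain ⟨g, hg⟩ := MulAction.exists_smul_eq d.L R (d.P.subtype d.P_le_L)
    set s' := g * st * g⁻¹ with hs'
    have hcent : ∀ p ∈ (d.P : Subgroup G), (s' : G) * p = p * (s' : G) := by
      intro p hp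
      have hmem : (⟨p, d.P_le_L hp⟩ : d.L) ∈ ((g • R : Sylow 2 d.L) : Subgroup d.L) := by
        rw [hg]; exact hp
      obtain ⟨t, ht, hte⟩ := hmem
      rw [hRT] at ht
      obtain ⟨t', -, rfl⟩ := ht
      have hc := mem_centralizer_singleton_iff.mp t'.2
      have e : g * (t' : d.L) * g⁻¹ = ⟨p, d.P_le_L hp⟩ := hte
      rw [show p = ((g * (t' : d.L) * g⁻¹ : d.L) : G) from (congrArg Subtype.val e).symm, hs']
      simp only [← coe_mul]
      refine congrArg Subtype.val ?_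
      calc g * st * g⁻¹ * (g * (t' : d.L) * g⁻¹) = g * (st * t') * g⁻¹ := by group
        _ = g * (t' * st) * g⁻¹ := by rw [hc]
        _ = _ := by group
    have hsz : (s' : G) = d.z := by
      have h4 : (s' : G) ∈ zpowers d.σ := by
        rw [← d.hC, mem_centralizer_singleton_iff]; exact hcent _ d.hσP
      have ho : orderOf (s' : G) = 2 := by
        rw [hs']; push_cast; rw [orderOf_conj31]; exact d.στo
      exact congrArg Subtype.val (CfsgLib.Involutions.involution_unique_of_cyclic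
        (C := zpowers d.σ) (a := ⟨_, h4⟩) (b := ⟨d.z, pow_mem (mem_zpowers _) 2⟩)
        (by rw [← orderOf_coe]; exact ho) (by rw [← orderOf_coe]; exact d.zo))
    refine d.στ_not_K hA ?_
    have h := d.K_conj hA (inv_mem g.2) (hsz ▸ d.V_le_K d.z_mem_V : (s' : G) ∈ d.K)
    rw [show (g : G)⁻¹ * (s' : G) * (g : G)⁻¹⁻¹ = d.σ * d.τ by
      rw [hs']; push_cast; simp only [hst, coe_mul]; group] at h
    exact h
  have hXab : X ∣ Nat.card d.A * Nat.card d.B :=
    (Nat.coprime_two_right.mpr hXodd).dvd_of_dvd_mul_left hXdvd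
  set a := Nat.card d.A
  set b := Nat.card d.B
  have ha0 : (a : ℤ) ≠ 0 := Int.natCast_ne_zero.mpr Nat.card_pos.ne'
  have hb0 : (b : ℤ) ≠ 0 := Int.natCast_ne_zero.mpr Nat.card_pos.ne'
  rw [hKc, hcz, hczt] at h1
  rw [hKc, hcz, hstc, hX] at h2
  push_cast at h1 h2
  have hK : (Nat.card d.K : ℤ) * n ^ 2 = 4 * a * (b : ℤ) ^ 3 * (4 * n + 1) * (2 * n + 1) := by
    refine mul_right_cancel₀ (pow_ne_zero 2 (mul_ne_zero (by norm_num : (4 : ℤ) ≠ 0) ha0)) ?_
    linear_combination h1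
  have hXn : (X : ℤ) * n = (b : ℤ) ^ 2 * (2 * n + 1) := by
    refine mul_left_cancel₀ (mul_ne_zero (mul_ne_zero (mul_ne_zero
      (by norm_num : (16 : ℤ) ≠ 0) ha0) hb0) (show 4 * n + 1 ≠ 0 by omega)) ?_
    linear_combination n * h2 + 4 * hK
  refine ⟨n, X, hn, by exact_mod_cast hXab, hXn, hK, fun hneg hab => ?_⟩
  obtain ⟨f, hf, hf1⟩ := h3 hneg
  have hXb : X = a * b := by
    subst hneg
    have : (X : ℤ) = ((a * b : ℕ) : ℤ) := by push_cast; rw [hab]; linear_combination -hXn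
    exact_mod_cast this
  have hidx : ∀ g : G, g * (d.σ * d.τ) = d.σ * d.τ * g → Odd (orderOf g) → g ∈ d.L := by
    intro g hg ho
    have h2i : ((Cs ⊓ d.L).subgroupOf Cs).index = 2 := by
      have h := ((Cs ⊓ d.L).subgroupOf Cs).card_mul_index
      rw [Nat.card_congr (subgroupOfEquivOfLe inf_le_left).toEquiv, hX, hC8, hXb] at h
      have h0 : 0 < a * b := Nat.mul_pos Nat.card_pos Nat.card_pos
      apply Nat.eq_of_mul_eq_mul_left (show 0 < 4 * (a * b) by omega)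
      rw [h]; ring
    obtain ⟨m, hm⟩ := ho
    have e : g = (g ^ (m + 1)) ^ 2 := by
      rw [← pow_mul, show (m + 1) * 2 = orderOf g + 1 by omega, pow_succ, pow_orderOf_eq_one, one_mul]
    have h := Subgroup.mul_self_mem_of_index_two h2i
      (⟨g ^ (m + 1), pow_mem (mem_centralizer_singleton_iff.mpr hg) _⟩ : Cs)
    rw [e, pow_two]
    exact h.2
  let φ : d.K →* ℂˣ := f.comp (subgroupOfEquivOfLe d.K_le_L).symm.toMonoidHom
  refine d.W_spec hA φ (fun g hg => ?_) (fun e => hf ?_) hidx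
  · exact hf1 _ (Subtype.ext (by simpa [z] using hg))
  · ext g
    have := DFunLike.congr_fun e ((subgroupOfEquivOfLe d.K_le_L) g)
    simp only [φ, MonoidHom.comp_apply, MulEquiv.coe_toMonoidHom, MulEquiv.symm_apply_apply,
      MonoidHom.one_apply] at this
    rw [this]; rfl

end D8

end CfsgLib.SmallCent31
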