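import Cfsg.Agent.Lib.Transfer.Basic

/-!
# A transfer lemma for an element of order four

If `w` of order four lies in the Sylow `2`-subgroup `P` outside a subgroup `Q` of index two which
contains all the involutions of `P`, and no conjugate of `w` lies in `Q`, then the group has a
normal subgroup of index two.
-/

set_option autoImplicit false

namespace CfsgLib.SmallCent31

open Subgroup

variable {G : Type*} [Group G] [Finite G]

theorem transfer_order_four (P : Sylow 2 G) (Q : Subgroup G)
    (hQi : Q.relIndex (P : Subgroup G) = 2) (hinv : ∀ y ∈ (P : Subgroup G), y ^ 2 = 1 → y ∈ Q)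
    (w : G) (hw : w ^ 4 = 1)
    (hcl : ∀ g : G, g * w * g⁻¹ ∈ (P : Subgroup G) → g * w * g⁻¹ ∉ Q) :
    ∃ M : Subgroup G, M.Normal ∧ M.index = 2 := by
  classical
  let Q' := Q.subgroupOf (P : Subgroup G)
  have hi : Q'.index = 2 := hQi
  let φ : (P : Subgroup G) →* ℤˣ :=
    { toFun := fun x => if x ∈ Q' then 1 else -1
      map_one' := if_pos Q'.one_mem
      map_mul' := fun x y => by
        have := mul_mem_iff_of_index_two hi (a := x) (b := y)
        by_cases hx : x ∈ Q' <;> by_cases hy : y ∈ Q' <;> simp [hx, hy, this] }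
  have hP : Odd (P : Subgroup G).index := by
    rw [← Nat.not_even_iff_odd, even_iff_two_dvd]; exact P.not_dvd_index
  have hQ' : ∀ (x : G) (hx : x ∈ (P : Subgroup G)), (⟨x, hx⟩ : (P : Subgroup G)) ∈ Q' ↔ x ∈ Q :=
    fun _ _ => Iff.rfl
  have hterm : ∀ (g : G) (m : ℕ) (h : g⁻¹ * w ^ m * g ∈ (P : Subgroup G)),
      φ ⟨_, h⟩ = (-1) ^ m := by
    intro g m h
    rcases Nat.even_or_odd m with ⟨j, hj⟩ | hm
    · rw [Even.neg_one_pow ⟨j, hj⟩]
      refine if_pos ((hQ' _ h).mpr (hinv _ h ?_))
      have e : (w ^ m) ^ 2 = 1 := by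
        rw [← pow_mul, show m * 2 = 4 * j by omega, pow_mul, hw, one_pow]
      calc (g⁻¹ * w ^ m * g) ^ 2 = g⁻¹ * (w ^ m) ^ 2 * g := by rw [pow_two, pow_two]; group
        _ = 1 := by rw [e]; group
    · rw [hm.neg_one_pow]
      refine if_neg fun hq => ?_
      rw [hQ'] at hq
      obtain ⟨j, hj⟩ := hm
      have hw' : g⁻¹ * w * g ∈ (P : Subgroup G) ∧ (g⁻¹ * w * g ∈ Q) := by
        rcases Nat.even_or_odd j with ⟨i, hi'⟩ | ⟨i, hi'⟩
        · have e : w ^ m = w := by
            rw [show m = 4 * i + 1 by omega, pow_add, pow_mul, hw, one_pow, one_mul, pow_one]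
          rw [e] at h hq
          exact ⟨h, hq⟩
        · have e : w ^ m = w⁻¹ := by
            rw [show m = 4 * i + 3 by omega, pow_add, pow_mul, hw, one_pow, one_mul]
            exact eq_inv_of_mul_eq_one_left (by rw [← pow_succ, hw])
          rw [e] at h hq
          have e' : g⁻¹ * w * g = (g⁻¹ * w⁻¹ * g)⁻¹ := by group
          rw [e']
          exact ⟨inv_mem h, inv_mem hq⟩
      have := hcl g⁻¹ (by simpa using hw'.1)
      exact this (by simpa using hw'.2)
  have hv : φ.transfer w = -1 := by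
    have : Fintype (Quotient (MulAction.orbitRel (zpowers w) (G ⧸ (P : Subgroup G)))) :=
      Fintype.ofFinite _
    rw [MonoidHom.transfer_eq_prod_quotient_orbitRel_zpowers_quot,
      Finset.prod_congr rfl (fun q _ => hterm _ _ _), Finset.prod_pow_eq_pow_sum,
      ← index_eq_sum_minimalPeriod (P : Subgroup G) w, hP.neg_one_pow]
  refine ⟨φ.transfer.ker, inferInstance, ?_⟩
  have hd : φ.transfer.ker.index ∣ 2 := by
    rw [index_ker]
    exact (card_subgroup_dvd_card _).trans (by simp [Nat.card_eq_fintype_card])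
  refine (Nat.prime_two.eq_one_or_self_of_dvd _ hd).resolve_left fun h1 => ?_
  have : w ∈ φ.transfer.ker := index_eq_one.mp h1 ▸ mem_top w
  simp [MonoidHom.mem_ker, hv] at this

end CfsgLib.SmallCent31
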